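import Groth.Agent.Lib.RankComm14.Fun
import Groth.Agent.Lib.Rigidity.SemiAbelian

/-!
A point of a torus over the affine line is constant; the slope of a non-commutative rank one system is not zero.
-/

universe u

open CategoryTheory MonoidalCategory CartesianMonoidalCategory MonObj GrpObj AlgebraicGeometry
open CategoryTheory.Limits

set_option backward.isDefEq.respectTransparency false

namespace GrothLib.RankComm14

open GrothLib.DiagGrp

variable {S : Scheme.{u}} {T : Over S} [GrpObj T]

/-- Over some extension of a field above the base a torus is split. -/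
theorem exists_split_over (hT : Red.IsTorus T) {K : Type u} [Field K] (σ : Spec (CommRingCat.of K) ⟶ S) :
    ∃ (L : Type u) (_ : Field L) (_ : Algebra K L) (r : ℕ),
      Nonempty (Grp.mk (Red.bc (Spec.map (CommRingCat.ofHom (algebraMap K L)) ≫ σ) T) ≅
        Grp.mk (Red.DS (Spec (CommRingCat.of L)) (Fin r → ℤ))) := by
  obtain ⟨S', f, hfl, hfs, -, hloc⟩ := hT
  obtain ⟨s', hs'⟩ := hfs.1 (σ.base (IsLocalRing.closedPoint K))
  obtain ⟨U, hU, r, ⟨e⟩⟩ := hloc s'
  obtain ⟨w, -, -⟩ := Scheme.Pullback.exists_preimage_pullback (f := U.ι ≫ f) (g := σ) ⟨s', hU⟩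
    (IsLocalRing.closedPoint K) (by rw [← hs']; rfl)
  let P := pullback (U.ι ≫ f) σ
  let L := P.residueField w
  let y : Spec (CommRingCat.of L) ⟶ (U : Scheme.{u}) := P.fromSpecResidueField w ≫ pullback.fst _ _
  let φ := Spec.preimage (P.fromSpecResidueField w ≫ pullback.snd (U.ι ≫ f) σ : Spec (CommRingCat.of L) ⟶ Spec (CommRingCat.of K))
  letI : Algebra K L := φ.hom.toAlgebra
  have hg : Spec.map (CommRingCat.ofHom (algebraMap K L)) ≫ σ = y ≫ U.ι ≫ f := by
    rw [show CommRingCat.ofHom (algebraMap K L) = φ from rfl, Spec.map_preimage, Category.assoc,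
      ← pullback.condition, Category.assoc]
  have hterm : y ≫ Limits.IsTerminal.from specULiftZIsTerminal (U : Scheme.{u}) =
      Limits.IsTerminal.from specULiftZIsTerminal _ := specULiftZIsTerminal.hom_ext _ _
  exact ⟨L, inferInstance, inferInstance, r,
    ⟨(bcGrpComp T (U.ι ≫ f) y _ hg).trans (((Over.pullback y).mapGrp.mapIso e).trans
    (bcGrpComp (Red.diag (ULift.{u} ℤ) (Fin r → ℤ)) (Limits.IsTerminal.from specULiftZIsTerminal _) y
      (Limits.IsTerminal.from specULiftZIsTerminal _) hterm.symm).symm)⟩⟩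

theorem obMap_comp_apply {R : Type u} [CommRing R] (σ : Spec (CommRingCat.of R) ⟶ S) {A B C : Type u} [CommRing A]
    [Algebra R A] [CommRing B] [Algebra R B] [CommRing C] [Algebra R C] (φ : A →ₐ[R] B) (ψ : B →ₐ[R] C) {X : Over S}
    (t : ob σ A ⟶ X) : obMap σ ψ ≫ obMap σ φ ≫ t = obMap σ (ψ.comp φ) ≫ t := by
  rw [← Category.assoc]
  congr 1
  apply Over.OverMorphism.ext
  change Spec.map (CommRingCat.ofHom ψ.toRingHom) ≫ Spec.map (CommRingCat.ofHom φ.toRingHom) =
    Spec.map (CommRingCat.ofHom (ψ.comp φ).toRingHom)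
  rw [← Spec.map_comp, ← CommRingCat.ofHom_comp]
  rfl

/-- Points of an affine group over the base are detected along injective maps of algebras. -/
theorem eq_of_injective {X : Over S} [IsAffineHom X.hom] {R : Type u} [CommRing R]
    (σ : Spec (CommRingCat.of R) ⟶ S) {A B : Type u} [CommRing A] [Algebra R A] [CommRing B] [Algebra R B]
    (φ : A →ₐ[R] B) (hφ : Function.Injective φ) {a b : ob σ A ⟶ X} (h : obMap σ φ ≫ a = obMap σ φ ≫ b) : a = b := by
  let YA : Over (Spec (CommRingCat.of R)) := Over.mk (Spec.map (CommRingCat.ofHom (algebraMap R A)))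
  haveI : IsAffineHom (pullback.snd X.hom σ) := MorphismProperty.pullback_snd (P := @IsAffineHom) _ _ ‹IsAffineHom X.hom›
  haveI : IsAffine (pullback X.hom σ) := isAffine_of_isAffineHom (pullback.snd X.hom σ)
  have hw : ∀ c : ob σ A ⟶ X, c.left ≫ X.hom = Spec.map (CommRingCat.ofHom (algebraMap R A)) ≫ σ := fun c => Over.w c
  let la : ∀ c : ob σ A ⟶ X, Spec (CommRingCat.of A) ⟶ pullback X.hom σ := fun c => pullback.lift c.left _ (hw c)
  have hl : la a = la b := by
    refine ext_of_isAffine ?_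
    have h1 : Spec.map (CommRingCat.ofHom φ.toRingHom) ≫ la a = Spec.map (CommRingCat.ofHom φ.toRingHom) ≫ la b := by
      apply pullback.hom_ext
      · simp only [la, Category.assoc, pullback.lift_fst]
        exact congrArg Over.Hom.left h
      · simp only [la, Category.assoc, pullback.lift_snd]
    have hinj : Function.Injective (Spec.map (CommRingCat.ofHom φ.toRingHom)).appTop := by
      intro x z hxz
      obtain ⟨x', rfl⟩ : ∃ x', (Scheme.ΓSpecIso (CommRingCat.of A)).inv x' = x :=
        ⟨_, congrArg (fun g => (ConcreteCategory.hom g) x) (Scheme.ΓSpecIso (CommRingCat.of A)).hom_inv_id⟩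
      obtain ⟨z', rfl⟩ : ∃ z', (Scheme.ΓSpecIso (CommRingCat.of A)).inv z' = z :=
        ⟨_, congrArg (fun g => (ConcreteCategory.hom g) z) (Scheme.ΓSpecIso (CommRingCat.of A)).hom_inv_id⟩
      rw [GrothLib.RankCell14.specMap_appTop, GrothLib.RankCell14.specMap_appTop] at hxz
      exact congrArg _ (hφ ((Scheme.ΓSpecIso (CommRingCat.of B)).commRingCatIsoToRingEquiv.symm.injective hxz))
    ext x
    apply hinj
    exact congrArg (fun g : Spec (CommRingCat.of B) ⟶ pullback X.hom σ => g.appTop x) h1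
  apply Over.OverMorphism.ext
  have := congrArg (fun g => g ≫ pullback.fst X.hom σ) hl
  simpa only [la, pullback.lift_fst] using this

/-- A point of a torus on the affine line over a field which is trivial at the origin is trivial. -/
theorem const_of_polynomial (hT : Red.IsTorus T) {K : Type u} [Field K] (σ : Spec (CommRingCat.of K) ⟶ S)
    (t : ob σ (Polynomial K) ⟶ T) (ht : obMap σ (Polynomial.aeval (0 : K)) ≫ t = 1) : t = 1 := by
  haveI : IsAffineHom T.hom := EssFree.isAffineHom_multTypeFT T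
    (QuotTorus14.isMultTypeFT_of_charts (GrothLib.DiagGrp.hasChartsFpqc_of_isTorus hT))
  obtain ⟨L, _, _, r, ⟨e⟩⟩ := exists_split_over hT σ
  let φ : Polynomial K →ₐ[K] Polynomial L := Polynomial.mapAlgHom (Algebra.ofId K L)
  refine eq_of_injective σ φ (Polynomial.map_injective _ (algebraMap K L).injective) ?_
  rw [MonObj.comp_one]
  let σL := Spec.map (CommRingCat.ofHom (algebraMap K L)) ≫ σ
  let a : Red.bc σL T ≅ Red.DS (Spec (CommRingCat.of L)) (Fin r → ℤ) := (Grp.forget _).mapIso e
  haveI : IsMonHom a.hom := e.hom.hom.isMonHom_hom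
  let Z : Over (Spec (CommRingCat.of L)) := Over.mk (Spec.map (CommRingCat.ofHom (Polynomial.C : L →+* Polynomial L)))
  let k : (Over.map σL).obj Z ⟶ ob σ (Polynomial L) := Over.homMk (𝟙 _) (by
    change 𝟙 _ ≫ Spec.map (CommRingCat.ofHom (algebraMap K (Polynomial L))) ≫ σ =
      Spec.map (CommRingCat.ofHom (Polynomial.C : L →+* Polynomial L)) ≫ Spec.map (CommRingCat.ofHom (algebraMap K L)) ≫ σ
    rw [Category.id_comp, ← Category.assoc, ← Spec.map_comp, ← CommRingCat.ofHom_comp]
    rfl)
  haveI : IsIso k := by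
    haveI : IsIso ((Over.forget S).map k) := inferInstanceAs (IsIso (𝟙 (Spec (CommRingCat.of (Polynomial L)))))
    exact isIso_of_reflects_iso k (Over.forget S)
  rw [← cancel_epi k, MonObj.comp_one]
  apply (bcPointMulEquiv σL T Z).injective
  rw [map_one, ← cancel_mono a.hom, MonObj.one_comp]
  obtain ⟨χ, hχ⟩ := (dsPoint (Fin r → ℤ) (Spec.map (CommRingCat.ofHom (Polynomial.C : L →+* Polynomial L)))).surjective
    (bcPointMulEquiv σL T Z (k ≫ obMap σ φ ≫ t) ≫ a.hom)
  have hp : Spec.map (CommRingCat.ofHom (Polynomial.evalRingHom (0 : L))) ≫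
      Spec.map (CommRingCat.ofHom (Polynomial.C : L →+* Polynomial L)) = Spec.map (CommRingCat.ofHom (RingHom.id L)) := by
    rw [← Spec.map_comp, ← CommRingCat.ofHom_comp]
    congr 2
    ext x
    simp
  have h0 : (Polynomial.evalRingHom (0 : L) : Polynomial L →* L).comp χ = 1 := by
    apply (dsPoint (Fin r → ℤ) (Spec.map (CommRingCat.ofHom (RingHom.id L)))).injective
    rw [map_one, ← dsPoint_comp _ _ _ χ hp]
    let e0 : Over.mk (Spec.map (CommRingCat.ofHom (RingHom.id L))) ⟶ Z :=
      Over.homMk (Spec.map (CommRingCat.ofHom (Polynomial.evalRingHom (0 : L)))) hp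
    change e0 ≫ dsPoint (Fin r → ℤ) _ χ = 1
    rw [hχ, ← Category.assoc]
    have h1 : e0 ≫ bcPointMulEquiv σL T Z (k ≫ obMap σ φ ≫ t) = 1 := by
      refine (bcPoint_comp σL e0 _).symm.trans ?_
      have h2 : (Over.map σL).map e0 ≫ k ≫ obMap σ φ ≫ t = 1 := by
        let k0 : (Over.map σL).obj (Over.mk (Spec.map (CommRingCat.ofHom (RingHom.id L)))) ⟶ ob σ L := Over.homMk (𝟙 _) (by
          change 𝟙 _ ≫ Spec.map (CommRingCat.ofHom (algebraMap K L)) ≫ σ =
            Spec.map (CommRingCat.ofHom (RingHom.id L)) ≫ Spec.map (CommRingCat.ofHom (algebraMap K L)) ≫ σ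
          rw [show CommRingCat.ofHom (RingHom.id L) = 𝟙 (CommRingCat.of L) from rfl, Spec.map_id]
          try rfl)
        have hk : (Over.map σL).map e0 ≫ k = k0 ≫ obMap σ ((Polynomial.aeval (0 : L)).restrictScalars K) := by
          apply Over.OverMorphism.ext
          change Spec.map (CommRingCat.ofHom (Polynomial.evalRingHom (0 : L))) ≫ 𝟙 _ = 𝟙 _ ≫ Spec.map _
          refine (Category.comp_id _).trans (Eq.trans ?_ (Category.id_comp _).symm)
          congr 2
        rw [reassoc_of% hk, obMap_comp_apply,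
          show ((Polynomial.aeval (0 : L)).restrictScalars K).comp φ = (Algebra.ofId K L).comp (Polynomial.aeval (0 : K)) from
            Polynomial.algHom_ext (by simp [φ]),
          ← obMap_comp_apply, ht, MonObj.comp_one, MonObj.comp_one]
      rw [h2]
      exact map_one (bcPointMulEquiv σL T _)
    rw [h1, MonObj.one_comp]
  have hχ1 : χ = 1 := by
    refine MonoidHom.ext fun m => ?_
    have hu : IsUnit (χ m) := IsUnit.of_mul_eq_one (χ m⁻¹) (by rw [← map_mul, mul_inv_cancel, map_one])
    obtain ⟨c, -, hc⟩ := Polynomial.isUnit_iff.mp hu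
    have h := DFunLike.congr_fun h0 m
    simp only [MonoidHom.comp_apply, MonoidHom.one_apply] at h
    rw [← hc] at h
    rw [MonoidHom.one_apply, ← hc]
    change Polynomial.eval 0 (Polynomial.C c) = 1 at h
    rw [Polynomial.eval_C] at h
    rw [h, map_one]
  rw [← hχ, hχ1, map_one]

/-- A non-commutative rank one system has non-zero slope. -/
theorem Sys.slope_ne_zero {G : Over S} [GrpObj G] {i : T ⟶ G} {α : T ⟶ Red.Gm S} {pp pm : Red.Ga S ⟶ G}
    (H : Sys i α pp pm) (s : S)
    (hnc : ∃ (X : Over (Spec (CommRingCat.of (AlgebraicClosure (S.residueField s)))))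
      (x y : X ⟶ Red.bc (Red.geomPt s) (Red.Ga S)),
      (x ≫ (Over.pullback (Red.geomPt s)).map pp) * (y ≫ (Over.pullback (Red.geomPt s)).map pm) ≠
        (y ≫ (Over.pullback (Red.geomPt s)).map pm) * (x ≫ (Over.pullback (Red.geomPt s)).map pp)) :
    ¬ (H.fn (Red.geomPt s)).IsSlope (0 : AlgebraicClosure (S.residueField s)) := by
  intro h0
  obtain ⟨X, x, y, hne⟩ := hnc
  apply hne
  let p := Red.geomPt s
  obtain ⟨a, rfl⟩ := (bcPointMulEquiv p (Red.Ga S) X).surjective x
  obtain ⟨b, rfl⟩ := (bcPointMulEquiv p (Red.Ga S) X).surjective y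
  have hb : ∀ (w : Red.Ga S ⟶ G) (c : (Over.map p).obj X ⟶ Red.Ga S),
      bcPointMulEquiv p (Red.Ga S) X c ≫ (Over.pullback p).map w = bcPointMulEquiv p G X (c ≫ w) := fun w c =>
    (bcPoint_comp_right p c w).symm
  rw [hb, hb, ← map_mul, ← map_mul]
  congr 1
  apply Over.OverMorphism.ext
  refine X.left.affineOpenCover.openCover.hom_ext _ _ fun j => ?_
  let K := AlgebraicClosure (S.residueField s)
  let f : Spec (X.left.affineOpenCover.X j) ⟶ X.left := X.left.affineOpenCover.f j
  let ψ : CommRingCat.of K ⟶ X.left.affineOpenCover.X j := Spec.preimage (f ≫ X.hom)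
  letI : Algebra K (X.left.affineOpenCover.X j) := ψ.hom.toAlgebra
  let k : ob p (X.left.affineOpenCover.X j) ⟶ (Over.map p).obj X := Over.homMk f (by
    change f ≫ X.hom ≫ p = Spec.map (CommRingCat.ofHom (algebraMap K (X.left.affineOpenCover.X j))) ≫ p
    rw [← Category.assoc, show CommRingCat.ofHom (algebraMap K (X.left.affineOpenCover.X j)) = ψ from rfl,
      Spec.map_preimage])
  suffices hk : k ≫ ((a ≫ pp) * (b ≫ pm)) = k ≫ ((b ≫ pm) * (a ≫ pp)) from congrArg Over.Hom.left hk
  have key := (H.fn p).commute_of_slope_zero h0 (fun t ht => const_of_polynomial H.hT p t ht)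
    ((toFn p (X.left.affineOpenCover.X j)).symm (Red.gaFn (k ≫ a)))
    ((toFn p (X.left.affineOpenCover.X j)).symm (Red.gaFn (k ≫ b)))
  change (GrothLib.RedPts.gaPt (toFn p _ ((toFn p _).symm (Red.gaFn (k ≫ a)))) ≫ pp) *
      (GrothLib.RedPts.gaPt (toFn p _ ((toFn p _).symm (Red.gaFn (k ≫ b)))) ≫ pm) =
    (GrothLib.RedPts.gaPt (toFn p _ ((toFn p _).symm (Red.gaFn (k ≫ b)))) ≫ pm) *
      (GrothLib.RedPts.gaPt (toFn p _ ((toFn p _).symm (Red.gaFn (k ≫ a)))) ≫ pp) at key
  rw [RingEquiv.apply_symm_apply, RingEquiv.apply_symm_apply, GrothLib.RankCell14.gaPt_gaFn,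
    GrothLib.RankCell14.gaPt_gaFn] at key
  rw [MonObj.comp_mul, MonObj.comp_mul, ← Category.assoc, ← Category.assoc]
  exact key

end GrothLib.RankComm14
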