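import Mathlib.Algebra.DualNumber
import Mathlib.RingTheory.Flat.FaithfullyFlat.Algebra
import Mathlib.RingTheory.RingHom.FaithfullyFlat
import Mathlib.RingTheory.Localization.Away.Basic
import Mathlib.FieldTheory.IsAlgClosed.AlgebraicClosure
import Mathlib.Algebra.Polynomial.Roots
import Mathlib.RingTheory.Polynomial.Basic

/-!
The commutation formula of a rank one system, as algebra on a functor of algebras with values in groups:
a group functor containing an open cell `v · T · u`.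
-/

universe u

open Polynomial

namespace GrothLib.RankComm14

/-- A group functor on `R`-algebras with two additive subgroups exchanged with scalars by a torus, whose
product map is an open cell. -/
structure CellFun (R : Type u) [CommRing R] : Type (u + 1) where
  P : ∀ (A : Type u) [CommRing A] [Algebra R A], Type u
  T : ∀ (A : Type u) [CommRing A] [Algebra R A], Type u
  [grpP : ∀ (A : Type u) [CommRing A] [Algebra R A], Group (P A)]
  [grpT : ∀ (A : Type u) [CommRing A] [Algebra R A], CommGroup (T A)]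
  map : ∀ {A B : Type u} [CommRing A] [Algebra R A] [CommRing B] [Algebra R B], (A →ₐ[R] B) → (P A →* P B)
  tmap : ∀ {A B : Type u} [CommRing A] [Algebra R A] [CommRing B] [Algebra R B], (A →ₐ[R] B) → (T A →* T B)
  u : ∀ {A : Type u} [CommRing A] [Algebra R A], A → P A
  v : ∀ {A : Type u} [CommRing A] [Algebra R A], A → P A
  i : ∀ {A : Type u} [CommRing A] [Algebra R A], T A →* P A
  χ : ∀ {A : Type u} [CommRing A] [Algebra R A], T A →* Aˣ
  u_add : ∀ {A : Type u} [CommRing A] [Algebra R A] (a b : A), u (a + b) = u a * u b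
  v_add : ∀ {A : Type u} [CommRing A] [Algebra R A] (a b : A), v (a + b) = v a * v b
  u_map : ∀ {A B : Type u} [CommRing A] [Algebra R A] [CommRing B] [Algebra R B] (φ : A →ₐ[R] B) (a : A),
    map φ (u a) = u (φ a)
  v_map : ∀ {A B : Type u} [CommRing A] [Algebra R A] [CommRing B] [Algebra R B] (φ : A →ₐ[R] B) (a : A),
    map φ (v a) = v (φ a)
  i_map : ∀ {A B : Type u} [CommRing A] [Algebra R A] [CommRing B] [Algebra R B] (φ : A →ₐ[R] B) (t : T A),
    map φ (i t) = i (tmap φ t)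
  χ_map : ∀ {A B : Type u} [CommRing A] [Algebra R A] [CommRing B] [Algebra R B] (φ : A →ₐ[R] B) (t : T A),
    (χ (tmap φ t) : B) = φ (χ t)
  conj_u : ∀ {A : Type u} [CommRing A] [Algebra R A] (t : T A) (a : A), i t * u a = u ((χ t : A) * a) * i t
  conj_v : ∀ {A : Type u} [CommRing A] [Algebra R A] (t : T A) (a : A),
    i t * v a = v (((χ t)⁻¹ : Aˣ) * a) * i t
  inj : ∀ {A : Type u} [CommRing A] [Algebra R A] {a a' b b' : A} {t t' : T A},
    v a * i t * u b = v a' * i t' * u b' → a = a' ∧ t = t' ∧ b = b'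
  locus : ∀ {A : Type u} [CommRing A] [Algebra R A] (g : P A), ∃ J : Ideal A,
    ((∃ (a : A) (t : T A) (b : A), g = v a * i t * u b) ↔ J = ⊤) ∧
      ∀ {B : Type u} [CommRing B] [Algebra R B] (φ : A →ₐ[R] B),
        ((∃ (a : B) (t : T B) (b : B), map φ g = v a * i t * u b) ↔ J.map φ.toRingHom = ⊤)
  cover : ∀ {A : Type u} [CommRing A] [Algebra R A] (c : Aˣ),
    ∃ (B : Type u) (_ : CommRing B) (_ : Algebra R B) (φ : A →ₐ[R] B) (t : T B),
      φ.toRingHom.FaithfullyFlat ∧ (χ t : B) = φ c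
  descent : ∀ {A B : Type u} [CommRing A] [Algebra R A] [CommRing B] [Algebra R B] (φ : A →ₐ[R] B),
    φ.toRingHom.FaithfullyFlat → Function.Injective (map φ)

attribute [instance] CellFun.grpP CellFun.grpT

variable {R : Type u} [CommRing R]

theorem AlgHom.map_map {A B : Type u} [CommRing A] [Algebra R A] [CommRing B] [Algebra R B] (φ : A →ₐ[R] B) (a : A) :
    φ.toRingHom a = φ a := rfl

namespace CellFun

variable (F : CellFun R) {A B : Type u} [CommRing A] [Algebra R A] [CommRing B] [Algebra R B]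

/-- A point lies in the cell. -/
def In (g : F.P A) : Prop := ∃ (a : A) (t : F.T A) (b : A), g = F.v a * F.i t * F.u b

theorem u_zero : F.u (0 : A) = 1 := by
  have h := F.u_add (0 : A) 0
  rw [add_zero] at h
  exact left_eq_mul.mp h

theorem v_zero : F.v (0 : A) = 1 := by
  have h := F.v_add (0 : A) 0
  rw [add_zero] at h
  exact left_eq_mul.mp h

theorem u_neg (a : A) : F.u (-a) = (F.u a)⁻¹ := eq_inv_of_mul_eq_one_left (by rw [← F.u_add, neg_add_cancel, F.u_zero])

theorem v_neg (a : A) : F.v (-a) = (F.v a)⁻¹ := eq_inv_of_mul_eq_one_left (by rw [← F.v_add, neg_add_cancel, F.v_zero])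

theorem mk_in (a : A) (t : F.T A) (b : A) : F.In (F.v a * F.i t * F.u b) := ⟨a, t, b, rfl⟩

theorem in_v (a : A) : F.In (F.v a) := ⟨a, 1, 0, by rw [map_one, F.u_zero, mul_one, mul_one]⟩

theorem u_i (a : A) (t : F.T A) : F.u a * F.i t = F.i t * F.u (((F.χ t)⁻¹ : Aˣ) * a) := by
  rw [F.conj_u, ← mul_assoc, Units.mul_inv, one_mul]

theorem mul_cell (a a' b : A) (t t' : F.T A) :
    F.v a * F.i t * (F.v a' * F.i t' * F.u b) = F.v (a + ((F.χ t)⁻¹ : Aˣ) * a') * F.i (t * t') * F.u b := by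
  rw [F.v_add, map_mul F.i]
  calc _ = F.v a * (F.i t * F.v a') * F.i t' * F.u b := by group
    _ = _ := by rw [F.conj_v]; group

theorem cell_mul (a b b' : A) (t t' : F.T A) :
    F.v a * F.i t * F.u b * (F.i t' * F.u b') = F.v a * F.i (t * t') * F.u (((F.χ t')⁻¹ : Aˣ) * b + b') := by
  rw [F.u_add, map_mul F.i]
  have h : F.i t' * F.u (((F.χ t')⁻¹ : Aˣ) * b) = F.u b * F.i t' := by
    rw [F.conj_u, ← mul_assoc ((F.χ t') : A), Units.mul_inv, one_mul]
  calc _ = F.v a * F.i t * (F.u b * F.i t') * F.u b' := by group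
    _ = _ := by rw [← h]; group

theorem in_left (a : A) (t : F.T A) (g : F.P A) : F.In (F.v a * F.i t * g) ↔ F.In g := by
  constructor
  · rintro ⟨a', t', b', h⟩
    have e : g = (F.v ((F.χ t : A) * -a) * F.i t⁻¹) * (F.v a' * F.i t' * F.u b') := by
      rw [← h]
      have h1 : F.v ((F.χ t : A) * -a) * F.i t⁻¹ = (F.v a * F.i t)⁻¹ := by
        rw [mul_inv_rev, ← F.v_neg, ← map_inv, F.conj_v]; simp only [map_inv, inv_inv]
      rw [h1, inv_mul_cancel_left]
    rw [e, F.mul_cell]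
    exact F.mk_in _ _ _
  · rintro ⟨a', t', b', rfl⟩
    rw [F.mul_cell]
    exact F.mk_in _ _ _

theorem in_right (b : A) (t : F.T A) (g : F.P A) : F.In (g * (F.i t * F.u b)) ↔ F.In g := by
  constructor
  · rintro ⟨a', t', b', h⟩
    have e : g = F.v a' * F.i t' * F.u b' * (F.i t⁻¹ * F.u ((F.χ t : A) * -b)) := by
      rw [← h]
      have h1 : F.i t⁻¹ * F.u ((F.χ t : A) * -b) = (F.i t * F.u b)⁻¹ := by
        rw [mul_inv_rev, ← F.u_neg, ← map_inv, F.conj_u, map_inv, ← mul_assoc, Units.inv_mul, one_mul]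
      rw [h1, mul_inv_cancel_right]
    rw [e, F.cell_mul]
    exact F.mk_in _ _ _
  · rintro ⟨a', t', b', rfl⟩
    rw [F.cell_mul]
    exact F.mk_in _ _ _

theorem in_map (φ : A →ₐ[R] B) {g : F.P A} (h : F.In g) : F.In (F.map φ g) := by
  obtain ⟨a, t, b, rfl⟩ := h
  rw [map_mul, map_mul, F.v_map, F.i_map, F.u_map]
  exact F.mk_in _ _ _

theorem map_uv (φ : A →ₐ[R] B) (x y : A) : F.map φ (F.u x * F.v y) = F.u (φ x) * F.v (φ y) := by
  rw [map_mul, F.u_map, F.v_map]

theorem map_coords (φ : A →ₐ[R] B) {x y a b : A} {t : F.T A} (h : F.u x * F.v y = F.v a * F.i t * F.u b) :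
    F.u (φ x) * F.v (φ y) = F.v (φ a) * F.i (F.tmap φ t) * F.u (φ b) := by
  rw [← F.map_uv, h, map_mul, map_mul, F.v_map, F.i_map, F.u_map]

/-- A point is in the cell when it is so at all points with values in algebraically closed fields. -/
theorem in_of_fields (g : F.P A)
    (h : ∀ (L : Type u) [Field L] [IsAlgClosed L] [Algebra R L] (φ : A →ₐ[R] L), F.In (F.map φ g)) : F.In g := by
  obtain ⟨J, hJ, hJφ⟩ := F.locus g
  refine hJ.mpr ?_
  by_contra hne
  obtain ⟨m, hm, hJm⟩ := Ideal.exists_le_maximal J hne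
  letI : Field (A ⧸ m) := Ideal.Quotient.field m
  let φ : A →ₐ[R] AlgebraicClosure (A ⧸ m) :=
    (IsScalarTower.toAlgHom R (A ⧸ m) (AlgebraicClosure (A ⧸ m))).comp (Ideal.Quotient.mkₐ R m)
  have h1 := (hJφ φ).mp (h _ φ)
  have h2 : J.map φ.toRingHom ≤ ⊥ := by
    rw [Ideal.map_le_iff_le_comap]
    intro a ha
    change φ a = 0
    simp only [φ, AlgHom.comp_apply, Ideal.Quotient.mkₐ_eq_mk, Ideal.Quotient.eq_zero_iff_mem.mpr (hJm ha), map_zero]
  exact bot_ne_top (le_bot_iff.mp (h1.symm.le.trans h2)).symm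

theorem in_of_faithfullyFlat (φ : A →ₐ[R] B) (hφ : φ.toRingHom.FaithfullyFlat) {g : F.P A}
    (h : F.In (F.map φ g)) : F.In g := by
  obtain ⟨J, hJ, hJφ⟩ := F.locus g
  refine hJ.mpr ?_
  have h1 := (hJφ φ).mp h
  letI := φ.toRingHom.toAlgebra
  haveI : Module.FaithfullyFlat A B := hφ
  rw [← Ideal.comap_map_eq_self_of_faithfullyFlat (B := B) J]
  change (J.map φ.toRingHom).comap φ.toRingHom = ⊤
  rw [h1, Ideal.comap_top]

/-- Conjugating by a point of the torus rescales the arguments. -/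
theorem scale_eq {x a b : A} {t₀ : F.T A} (c : Aˣ)
    (h : F.u (x * c) * F.v 1 = F.v a * F.i t₀ * F.u b) :
    F.u x * F.v (c : A) = F.v ((c : A) * a) * F.i t₀ * F.u (((c⁻¹ : Aˣ) : A) * b) := by
  obtain ⟨B, _, _, φ, t, hφ, ht⟩ := F.cover c
  refine F.descent φ hφ ?_
  rw [F.map_uv, map_mul, map_mul, F.v_map, F.i_map, F.u_map, map_mul, map_mul]
  have hB := F.map_coords φ h
  rw [map_mul, map_one, ← ht] at hB
  have hti : φ (((c⁻¹ : Aˣ) : A)) = (((F.χ t)⁻¹ : Bˣ) : B) := by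
    refine (Units.eq_inv_of_mul_eq_one_left ?_).trans rfl
    rw [ht, ← map_mul]; simp
  rw [← ht, hti]
  have hu : F.i t⁻¹ * F.u (φ x * (F.χ t : B)) = F.u (φ x) * F.i t⁻¹ := by
    rw [F.conj_u, map_inv, mul_comm (φ x), ← mul_assoc, Units.inv_mul, one_mul]
  have hv : F.i t⁻¹ * F.v (1 : B) = F.v ((F.χ t : B)) * F.i t⁻¹ := by
    rw [F.conj_v, map_inv, inv_inv, mul_one]
  have hv' : F.i t⁻¹ * F.v (φ a) = F.v ((F.χ t : B) * φ a) * F.i t⁻¹ := by
    rw [F.conj_v, map_inv, inv_inv]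
  have hu' : F.i t⁻¹ * F.u (φ b) = F.u ((((F.χ t)⁻¹ : Bˣ) : B) * φ b) * F.i t⁻¹ := by
    rw [F.conj_u, map_inv]
  have hc : F.i t⁻¹ * F.i (F.tmap φ t₀) = F.i (F.tmap φ t₀) * F.i t⁻¹ := by
    rw [← map_mul, ← map_mul, mul_comm]
  refine mul_right_cancel (b := F.i t⁻¹) ?_
  calc F.u (φ x) * F.v (F.χ t : B) * F.i t⁻¹ = F.u (φ x) * (F.v (F.χ t : B) * F.i t⁻¹) := mul_assoc _ _ _
    _ = F.i t⁻¹ * (F.u (φ x * (F.χ t : B)) * F.v 1) := by rw [← hv, ← mul_assoc, ← hu, mul_assoc]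
    _ = F.i t⁻¹ * F.v (φ a) * F.i (F.tmap φ t₀) * F.u (φ b) := by rw [hB]; group
    _ = F.v ((F.χ t : B) * φ a) * (F.i t⁻¹ * F.i (F.tmap φ t₀)) * F.u (φ b) := by rw [hv']; group
    _ = F.v ((F.χ t : B) * φ a) * F.i (F.tmap φ t₀) * (F.i t⁻¹ * F.u (φ b)) := by rw [hc]; group
    _ = _ := by rw [hu']; group

theorem in_scale (x : A) (c : Aˣ) : F.In (F.u x * F.v (c : A)) ↔ F.In (F.u (x * c) * F.v 1) := by
  constructor
  · intro h
    obtain ⟨B, _, _, φ, t, hφ, ht⟩ := F.cover c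
    refine F.in_of_faithfullyFlat φ hφ ?_
    rw [F.map_uv, map_mul, map_one, ← ht]
    have h' := F.in_map φ h
    rw [F.map_uv, ← ht] at h'
    have e : F.u (φ x * (F.χ t : B)) * F.v 1 =
        F.v 0 * F.i t * (F.u (φ x) * F.v (F.χ t : B) * (F.i t⁻¹ * F.u 0)) := by
      have hu : F.i t * F.u (φ x) = F.u (φ x * (F.χ t : B)) * F.i t := by rw [F.conj_u, mul_comm]
      have hv : F.i t * F.v (F.χ t : B) = F.v 1 * F.i t := by rw [F.conj_v, Units.inv_mul]
      rw [F.v_zero, F.u_zero, one_mul, mul_one, ← mul_assoc (F.i t), ← mul_assoc (F.i t), hu,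
        mul_assoc _ (F.i t) (F.v _), hv, map_inv]
      group
    rw [e, F.in_left, F.in_right]
    exact h'
  · rintro ⟨a, t, b, h⟩
    exact ⟨_, _, _, F.scale_eq c h⟩

/-- The first coordinate of `u x * v 1` is a unit. -/
theorem isUnit_coord {x a b : A} {t : F.T A} (h : F.u x * F.v 1 = F.v a * F.i t * F.u b) : IsUnit a := by
  by_contra ha
  obtain ⟨m, hm, ham⟩ := exists_max_ideal_of_mem_nonunits ha
  letI : Field (A ⧸ m) := Ideal.Quotient.field m
  have h1 := F.map_coords (Ideal.Quotient.mkₐ R m) h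
  rw [map_one, Ideal.Quotient.mkₐ_eq_mk, Ideal.Quotient.eq_zero_iff_mem.mpr ham, F.v_zero, one_mul] at h1
  rw [← eq_inv_mul_iff_mul_eq, ← F.u_neg, ← mul_assoc, F.u_i, mul_assoc, ← F.u_add] at h1
  obtain ⟨t', b', h2⟩ : ∃ (t' : F.T (A ⧸ m)) (b' : A ⧸ m),
      F.v (1 : A ⧸ m) * F.i 1 * F.u 0 = F.v 0 * F.i t' * F.u b' := by
    refine ⟨?_, ?_, ?h⟩
    rotate_left 2
    rw [map_one, F.u_zero, mul_one, mul_one, F.v_zero, one_mul]
    exact h1
  exact one_ne_zero (α := A ⧸ m) (F.inj h2).1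

theorem sq_zero_hom (e : B) (he : e * e = 0) : ∃ φ : DualNumber R →ₐ[R] B, φ DualNumber.eps = e :=
  ⟨DualNumber.lift ⟨(Algebra.ofId R B, e), he, fun _ => Commute.all _ _⟩, DualNumber.lift_apply_eps _⟩

theorem in_eps : F.In (F.u (DualNumber.eps : DualNumber R) * F.v 1) := by
  refine F.in_of_fields _ fun L _ _ _ φ => ?_
  have h : φ DualNumber.eps = 0 := mul_self_eq_zero.mp (by rw [← map_mul, DualNumber.eps_mul_eps, map_zero])
  rw [F.map_uv, h, map_one, F.u_zero, one_mul]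
  exact F.in_v _

theorem in_X_eval {K : Type u} [CommRing K] [Algebra R K] (r : K) {g : Polynomial K}
    (J : Ideal (Polynomial K)) (hg : g ∈ J) (hr : IsUnit (g.eval r)) :
    J.map (AlgHom.restrictScalars R (Polynomial.aeval r : Polynomial K →ₐ[K] K)).toRingHom = ⊤ := by
  refine Ideal.eq_top_of_isUnit_mem _ (Ideal.mem_map_of_mem _ hg) ?_
  simpa [Polynomial.coe_aeval_eq_eval] using hr

end CellFun

end GrothLib.RankComm14
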