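import Groth.Agent.Lib.RankComm14.Reductive

/-!
The Borel subgroups of a rank one system are closed.
-/

universe u

open CategoryTheory MonoidalCategory CartesianMonoidalCategory MonObj GrpObj AlgebraicGeometry
open CategoryTheory.Limits

set_option backward.isDefEq.respectTransparency false

namespace GrothLib.RankComm14

open GrothLib.RedPts GrothLib.RankCell14 GrothLib.RankOne

variable {S : Scheme.{u}} {G T : Over S} [GrpObj G] [GrpObj T] {i : T ⟶ G} {α : T ⟶ Red.Gm S}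
  {pp pm : Red.Ga S ⟶ G} {av : Red.Gm S ⟶ T}

theorem borel_apply {X : Over S} (p : Red.Ga S ⟶ G) (t : X ⟶ T) (x : X ⟶ Red.Ga S) :
    lift t x ≫ (i ⊗ₘ p) ≫ μ[G] = (t ≫ i) * (x ≫ p) := by
  rw [lift_map_assoc, Hom.mul_def]

/-- The positive Borel subgroup does not meet the translated cell. -/
theorem not_mem_translate (H : Hyp i α pp pm av) (hT : Red.IsTorus T) [IsOpenImmersion (cell i pp pm).left]
    {X : Over S} (hX : (1 : Γ(X.left, ⊤)) ≠ 0) (t : X ⟶ T) (x : Γ(X.left, ⊤))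
    (h : ∀ z, (((H.datum X).w 1)⁻¹ * ((H.datum X).i t * (H.datum X).u x)).left.base z ∈
      Set.range (cell i pp pm).left.base) : False := by
  obtain ⟨a, t₀, b, hc⟩ := exists_coords' H _ h
  refine w_mul_cell_ne_one H hT hX a (((H.datum X).χ t : Γ(X.left, ⊤)) * (b + -x)) (t₀ * t⁻¹) ?_
  rw [inv_mul_eq_iff_eq_mul] at hc
  have e : (H.datum X).v a * (H.datum X).i (t₀ * t⁻¹) * (H.datum X).u (((H.datum X).χ t : Γ(X.left, ⊤)) * (b + -x)) =
      (H.datum X).v a * (H.datum X).i t₀ * (H.datum X).u b * ((H.datum X).i t * (H.datum X).u x)⁻¹ := by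
    rw [map_mul, map_inv, _root_.mul_inv_rev, ← Datum.conjU, Datum.u_add, Datum.u_neg]
    group
  rw [e, ← _root_.mul_assoc ((H.datum X).w 1), ← hc, mul_inv_cancel]

/-- The positive Borel subgroup is closed. -/
theorem borel_closed (H : Hyp i α pp pm av) (hT : Red.IsTorus T) [IsOpenImmersion (cell i pp pm).left]
    [LocallyOfFiniteType G.hom] (hconn : ∀ s : S, ConnectedSpace (Red.geomFibre s G).left) :
    IsClosedImmersion ((i ⊗ₘ pp) ≫ μ[G]).left := by
  haveI := H.monI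
  haveI := H.monM
  let j : T ⊗ Red.Ga S ⟶ (Red.Ga S ⊗ T) ⊗ Red.Ga S := lift (lift 1 (fst _ _)) (snd _ _)
  let q : (Red.Ga S ⊗ T) ⊗ Red.Ga S ⟶ T ⊗ Red.Ga S := lift (fst _ _ ≫ snd _ _) (snd _ _)
  have hjq : j ≫ q = 𝟙 _ := by
    apply CartesianMonoidalCategory.hom_ext <;> simp [j, q]
  haveI hsep : IsSeparated q.left := by
    haveI : IsAffineHom T.hom := EssFree.isAffineHom_multTypeFT T
      (QuotTorus14.isMultTypeFT_of_charts (GrothLib.DiagGrp.hasChartsFpqc_of_isTorus hT))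
    haveI : IsAffineHom (Red.Ga S).hom := by
      haveI : IsAffineHom Red.GaZ.{u}.hom := inferInstanceAs (IsAffineHom (Spec.map _))
      exact MorphismProperty.pullback_snd (P := @IsAffineHom) _ _ ‹IsAffineHom Red.GaZ.{u}.hom›
    haveI : IsAffineHom (pullback.fst (Red.Ga S).hom T.hom) :=
      MorphismProperty.pullback_fst (P := @IsAffineHom) _ _ ‹IsAffineHom T.hom›
    haveI h1 : IsAffineHom (Red.Ga S ⊗ T).hom :=
      inferInstanceAs (IsAffineHom (pullback.fst (Red.Ga S).hom T.hom ≫ (Red.Ga S).hom))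
    haveI : IsAffineHom (pullback.fst (Red.Ga S ⊗ T).hom (Red.Ga S).hom) :=
      MorphismProperty.pullback_fst (P := @IsAffineHom) _ _ ‹IsAffineHom (Red.Ga S).hom›
    haveI : IsAffineHom ((Red.Ga S ⊗ T) ⊗ Red.Ga S).hom :=
      inferInstanceAs (IsAffineHom (pullback.fst (Red.Ga S ⊗ T).hom (Red.Ga S).hom ≫ (Red.Ga S ⊗ T).hom))
    haveI : IsSeparated (q.left ≫ (T ⊗ Red.Ga S).hom) := by rw [Over.w q]; infer_instance
    exact IsSeparated.of_comp q.left (T ⊗ Red.Ga S).hom
  haveI hj : IsClosedImmersion j.left := by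
    haveI : IsClosedImmersion (j.left ≫ q.left) := by
      rw [← Over.comp_left, hjq]; exact inferInstanceAs (IsClosedImmersion (𝟙 _))
    exact IsClosedImmersion.of_comp j.left q.left
  have hb : (i ⊗ₘ pp) ≫ μ[G] = j ≫ cell i pp pm := by
    rw [cell_apply, MonObj.one_comp, _root_.one_mul, ← Category.id_comp ((i ⊗ₘ pp) ≫ μ[G]), ← lift_fst_snd,
      borel_apply]
  rw [hb, Over.comp_left]
  haveI : IsImmersion (j.left ≫ (cell i pp pm).left) := inferInstance
  refine IsClosedImmersion.of_isPreimmersion _ ?_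
  rw [show Set.range (j.left ≫ (cell i pp pm).left).base = (cell i pp pm).left.base '' Set.range j.left.base from by
    rw [← Set.range_comp]; rfl]
  have hC : IsClosed (Set.range j.left.base) := hj.base_closed.isClosed_range
  rw [← isOpen_compl_iff, isOpen_iff_forall_mem_open]
  intro g hg
  by_cases hgΩ : g ∈ Set.range (cell i pp pm).left.base
  · obtain ⟨w, rfl⟩ := hgΩ
    refine ⟨(cell i pp pm).left.base '' (Set.range j.left.base)ᶜ, ?_,
      (cell i pp pm).left.isOpenEmbedding.isOpenMap _ hC.isOpen_compl, ⟨w, fun hw => hg ⟨w, hw, rfl⟩, rfl⟩⟩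
    rintro _ ⟨w', hw', rfl⟩ ⟨w'', hw'', e⟩
    exact hw' ((cell i pp pm).left.isOpenEmbedding.injective e ▸ hw'')
  · refine ⟨(((H.datum G).w 1)⁻¹ * 𝟙 G).left.base ⁻¹' Set.range (cell i pp pm).left.base, ?_,
      (cell i pp pm).left.isOpenEmbedding.isOpen_range.preimage (Scheme.Hom.continuous _), ?_⟩
    · rintro g' hg' ⟨w, ⟨p, rfl⟩, hp⟩
      let P : Over S := Over.mk ((T ⊗ Red.Ga S).left.fromSpecResidueField p ≫ (T ⊗ Red.Ga S).hom)
      let o : P ⟶ T ⊗ Red.Ga S := Over.homMk ((T ⊗ Red.Ga S).left.fromSpecResidueField p) rfl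
      have hne : (1 : Γ(P.left, ⊤)) ≠ 0 := fun h01 => by
        have h := congrArg (Scheme.ΓSpecIso ((T ⊗ Red.Ga S).left.residueField p)).hom.hom h01
        erw [map_one, map_zero] at h
        exact one_ne_zero (α := (T ⊗ Red.Ga S).left.residueField p) h
      refine not_mem_translate H hT hne (o ≫ fst _ _) (Red.gaFn (o ≫ snd _ _)) fun z => ?_
      have e1 : (H.datum P).i (o ≫ fst _ _) * (H.datum P).u (Red.gaFn (o ≫ snd _ _)) = o ≫ j ≫ cell i pp pm := by
        rw [← hb, ← H.u_eq, ← H.i_eq, ← borel_apply pp (o ≫ fst _ _) (o ≫ snd _ _), ← comp_lift,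
          lift_fst_snd, Category.comp_id]
      rw [e1, show ((H.datum P).w 1)⁻¹ * (o ≫ j ≫ cell i pp pm) =
        (o ≫ j ≫ cell i pp pm) ≫ (((H.datum G).w 1)⁻¹ * 𝟙 G) by
          rw [MonObj.comp_mul, GrpObj.comp_inv, w1_comp, Category.comp_id], Over.comp_left, Scheme.Hom.comp_apply,
        Over.comp_left, Scheme.Hom.comp_apply, Over.comp_left, Scheme.Hom.comp_apply]
      rw [show o.left.base z = p from Scheme.fromSpecResidueField_apply p z, hp]
      exact hg'
    · have h := (mem_or_mem H hconn (𝟙 G) g).resolve_left (by simpa using hgΩ)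
      exact h

/-- Conjugation by the Weyl element, as an isomorphism. -/
noncomputable def weylIso (H : Hyp i α pp pm av) : G ≅ G where
  hom := (H.datum G).w 1 * 𝟙 G * ((H.datum G).w 1)⁻¹
  inv := ((H.datum G).w 1)⁻¹ * 𝟙 G * (H.datum G).w 1
  hom_inv_id := by
    simp only [MonObj.comp_mul, GrpObj.comp_inv, w1_comp, Category.comp_id]; group
  inv_hom_id := by
    simp only [MonObj.comp_mul, GrpObj.comp_inv, w1_comp, Category.comp_id]; group

theorem weylIso_apply (H : Hyp i α pp pm av) {X : Over S} (g : X ⟶ G) :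
    g ≫ (weylIso H).hom = (H.datum X).w 1 * g * ((H.datum X).w 1)⁻¹ := by
  simp only [weylIso, MonObj.comp_mul, GrpObj.comp_inv, w1_comp, Category.comp_id]

/-- The negative Borel subgroup is closed. -/
theorem borel_neg_closed (H : Hyp i α pp pm av) (hT : Red.IsTorus T) [IsOpenImmersion (cell i pp pm).left]
    [LocallyOfFiniteType G.hom] (hconn : ∀ s : S, ConnectedSpace (Red.geomFibre s G).left) :
    IsClosedImmersion ((i ⊗ₘ pm) ≫ μ[G]).left := by
  haveI := H.monI
  haveI := H.monα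
  haveI := H.monAv
  haveI := borel_closed H hT hconn
  let e : T ⊗ Red.Ga S ⟶ T ⊗ Red.Ga S :=
    lift ((fst T (Red.Ga S) ≫ α ≫ av)⁻¹ * fst T (Red.Ga S)) (gaPt (-Red.gaFn (snd T (Red.Ga S))))
  have he : ∀ {X : Over S} (t : X ⟶ T) (y : X ⟶ Red.Ga S),
      lift t y ≫ e = lift ((t ≫ α ≫ av)⁻¹ * t) (gaPt (-Red.gaFn y)) := by
    intro X t y
    rw [comp_lift, MonObj.comp_mul, GrpObj.comp_inv, lift_fst_assoc, lift_fst, gaPt_comp, map_neg,
      ← gaFn_comp, lift_snd]
  have hee : e ≫ e = 𝟙 _ := by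
    conv_lhs => rw [← Category.id_comp e, ← lift_fst_snd, he, he]
    rw [gaFn_gaPt, neg_neg, gaPt_gaFn]
    rw [← lift_fst_snd]
    congr 1
    generalize fst T (Red.Ga S) = t
    have hav : ∀ r : T ⊗ Red.Ga S ⟶ T, r ≫ α ≫ av = (H.datum (T ⊗ Red.Ga S)).av ((H.datum (T ⊗ Red.Ga S)).χ r) := by
      intro r
      rw [← Category.assoc]
      exact congrArg (· ≫ av) (GmPts.ptOfUnit_unitOfPt (r ≫ α)).symm
    have hχ : ((t ≫ α ≫ av)⁻¹ * t) ≫ α ≫ av = (t ≫ α ≫ av)⁻¹ := by
      rw [hav, hav t, map_mul, map_inv, Datum.χav, ← map_inv]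
      congr 1
      group
    rw [hχ, _root_.inv_inv, mul_inv_cancel_left]
  haveI : IsIso e := ⟨e, hee, hee⟩
  have key : ((i ⊗ₘ pm) ≫ μ[G]) ≫ (weylIso H).hom = e ≫ (i ⊗ₘ pp) ≫ μ[G] := by
    rw [← Category.id_comp ((i ⊗ₘ pm) ≫ μ[G]), ← lift_fst_snd, borel_apply, weylIso_apply,
      ← Category.id_comp (e ≫ _), ← lift_fst_snd, ← Category.assoc, he, borel_apply, H.i_eq, H.v_eq, H.i_eq,
      H.u_eq, gaFn_gaPt, ← w_conj_v H]
    have hi : (H.datum (T ⊗ Red.Ga S)).i ((fst T (Red.Ga S) ≫ α ≫ av)⁻¹ * fst T (Red.Ga S)) =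
        (H.datum (T ⊗ Red.Ga S)).w 1 * (H.datum _).i (fst T (Red.Ga S)) * ((H.datum _).w 1)⁻¹ := by
      rw [Datum.w_conj_i, ← H.i_eq, ← H.i_eq, MonObj.mul_comp, GrpObj.inv_comp, Category.assoc, Category.assoc]
      congr 2
      rw [← Category.assoc (fst T (Red.Ga S)) α, H.C_eq']
      rfl
    rw [hi]; group
  haveI : IsIso (weylIso H).hom.left := inferInstanceAs (IsIso ((Over.forget S).map (weylIso H).hom))
  haveI : IsIso e.left := inferInstanceAs (IsIso ((Over.forget S).map e))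
  haveI : IsClosedImmersion (((i ⊗ₘ pm) ≫ μ[G]) ≫ (weylIso H).hom).left := by
    rw [key, Over.comp_left]; infer_instance
  exact (MorphismProperty.cancel_right_of_respectsIso @IsClosedImmersion _ (weylIso H).hom.left).mp
    (by rw [← Over.comp_left]; infer_instance)

/-- A root subgroup of a closed Borel subgroup is closed. -/
theorem root_closed [IsMonHom i] (hT : Red.IsTorus T) (p : Red.Ga S ⟶ G)
    [IsClosedImmersion ((i ⊗ₘ p) ≫ μ[G]).left] : IsClosedImmersion p.left := by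
  have e : p = lift (1 : Red.Ga S ⟶ T) (𝟙 _) ≫ (i ⊗ₘ p) ≫ μ[G] := by
    rw [borel_apply, MonObj.one_comp, _root_.one_mul, Category.id_comp]
  let q := snd T (Red.Ga S)
  let s : Red.Ga S ⟶ T ⊗ Red.Ga S := lift 1 (𝟙 _)
  haveI : IsSeparated q.left := by
    haveI : IsAffineHom T.hom := EssFree.isAffineHom_multTypeFT T
      (QuotTorus14.isMultTypeFT_of_charts (GrothLib.DiagGrp.hasChartsFpqc_of_isTorus hT))
    exact inferInstanceAs (IsSeparated (pullback.snd T.hom (Red.Ga S).hom))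
  haveI : IsClosedImmersion s.left := by
    haveI : IsClosedImmersion (s.left ≫ q.left) := by
      rw [← Over.comp_left, show s ≫ q = 𝟙 _ from lift_snd _ _]; exact inferInstanceAs (IsClosedImmersion (𝟙 _))
    exact IsClosedImmersion.of_comp s.left q.left
  rw [e, Over.comp_left]
  infer_instance

end GrothLib.RankComm14
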