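import Groth.Agent.Lib.RankComm14.Rule

/-!
Over an algebraically closed field a rank one system of slope zero is commutative.
-/

universe u

open Polynomial

namespace GrothLib.RankComm14

namespace CellFun

variable {K : Type u} [Field K] [IsAlgClosed K] (F : CellFun K)

/-- The bad values form an empty set when the slope vanishes. -/
theorem in_of_slope_zero (h0 : F.IsSlope (0 : K)) (z : K) : F.In (F.u z * F.v 1) := by
  classical
  by_contra hz
  obtain ⟨P, hP0, hPL, hP⟩ := F.exists_poly K
  have hPne : P ≠ 0 := fun h => hP0 (by rw [h, Polynomial.eval_zero])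
  let Z : Set K := {r | ¬ F.In (F.u r * F.v 1)}
  have hfin : Z.Finite := (Polynomial.finite_setOf_isRoot hPne).subset fun r hr => by
    by_contra h
    exact hr (hP r h)
  have hinf : Zᶜ.Infinite := hfin.infinite_compl
  have hco : ∀ v, v ∈ Zᶜ → ∃ f : K, f ≠ 0 ∧ (∀ z ∈ Z, (z - v) * f ∈ Z) ∧
      ∃ t b, F.u v * F.v 1 = F.v f * F.i t * F.u b := by
    intro v hv
    obtain ⟨a₀, t, b, h⟩ := not_not.mp hv
    refine ⟨a₀, (F.isUnit_coord h).ne_zero, fun z hz h' => hz ?_, t, b, h⟩
    rw [← sub_add_cancel z v, F.in_add_iff h]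
    exact h'
  choose! f hf0 hfZ hfc using hco
  by_cases htwo : ∃ z' ∈ Z, z' ≠ z
  · obtain ⟨z', hz', hne⟩ := htwo
    have himg : (f '' Zᶜ).Finite := by
      refine ((hfin.prod hfin).image fun q : K × K => (q.1 - q.2) / (z - z')).subset ?_
      rintro _ ⟨v, hv, rfl⟩
      refine ⟨((z - v) * f v, (z' - v) * f v), ⟨hfZ v hv z hz, hfZ v hv z' hz'⟩, ?_⟩
      change ((z - v) * f v - (z' - v) * f v) / (z - z') = f v
      rw [div_eq_iff (sub_ne_zero.mpr (Ne.symm hne))]; ring
    refine hinf ?_
    refine (himg.biUnion fun c hc => (?_ : {v | v ∈ Zᶜ ∧ f v = c}.Finite)).subset fun v hv =>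
      Set.mem_biUnion ⟨v, hv, rfl⟩ ⟨hv, rfl⟩
    refine Set.Finite.of_finite_image (f := fun v => (z - v) * c) (hfin.subset ?_) ?_
    · rintro _ ⟨v, ⟨hv, rfl⟩, rfl⟩
      exact hfZ v hv z hz
    · rintro v ⟨hv, rfl⟩ w ⟨-, -⟩ hvw
      exact sub_right_injective (mul_right_cancel₀ (hf0 v hv) hvw)
  · have hsing : ∀ z' ∈ Z, z' = z := fun z' h => by_contra fun hne => htwo ⟨z', h, hne⟩
    have hfz : ∀ v ∈ Zᶜ, (z - v) * f v = z := fun v hv => hsing _ (hfZ v hv z hz)
    have hz0 : z ≠ 0 := by
      rintro rfl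
      apply hz
      rw [F.u_zero, one_mul]
      exact F.in_v _
    let L := Localization.Away P
    obtain ⟨a₀, t, b₀, h⟩ := hPL
    obtain ⟨n, N, hN⟩ := IsLocalization.Away.surj P a₀
    have heval : ∀ {B : Type u} [CommRing B] [Algebra K B] (r : B), IsUnit (aeval r P) →
        ∃ (t : F.T B) (b : B), F.u r * F.v 1 =
          F.v (aeval r N * Ring.inverse (aeval r P ^ n)) * F.i t * F.u b := by
      intro B _ _ r hr
      let ψ : L →ₐ[K] B := IsLocalization.liftAlgHom (M := Submonoid.powers P) (f := aeval r) (fun y => by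
        obtain ⟨k, hk⟩ := y.2
        rw [← hk, map_pow]
        exact hr.pow k)
      have hψ : ∀ g, ψ (algebraMap K[X] L g) = aeval r g := fun g => IsLocalization.lift_eq _ g
      have h' := F.map_coords ψ h
      rw [map_one, hψ, aeval_X] at h'
      refine ⟨F.tmap ψ t, ψ b₀, h'.trans ?_⟩
      have e := congrArg ψ hN
      rw [map_mul, map_pow, hψ, hψ] at e
      rw [← e, mul_assoc (ψ a₀), Ring.mul_inverse_cancel _ (hr.pow n), mul_one (ψ a₀)]
    have hid : N * (C z - X) = C z * P ^ n := by
      refine Polynomial.eq_of_infinite_eval_eq _ _ ((Set.Infinite.diff hinf (Polynomial.finite_setOf_isRoot hPne)).mono ?_)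
      rintro v ⟨hv, hvP⟩
      obtain ⟨t', b', h'⟩ := heval v (isUnit_iff_ne_zero.mpr (by rwa [coe_aeval_eq_eval]))
      obtain ⟨t'', b'', h''⟩ := hfc v hv
      have e := (F.inj (h''.symm.trans h')).1
      have hPv : P.eval v ^ n ≠ 0 := pow_ne_zero _ hvP
      rw [coe_aeval_eq_eval, Ring.inverse_eq_inv', ← div_eq_mul_inv, eq_div_iff hPv] at e
      change eval v (N * (C z - X)) = eval v (C z * P ^ n)
      rw [eval_mul, eval_mul, eval_sub, eval_C, eval_X, eval_pow, ← e]
      linear_combination P.eval v ^ n * hfz v hv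
    have hεu : IsUnit (aeval (DualNumber.eps : DualNumber K) P) := by
      rw [TrivSqZeroExt.isUnit_iff_isUnit_fst,
        show TrivSqZeroExt.fst (aeval (DualNumber.eps : DualNumber K) P) =
          TrivSqZeroExt.fstHom K K K (aeval DualNumber.eps P) from rfl, ← aeval_algHom_apply,
        TrivSqZeroExt.fstHom_apply, DualNumber.fst_eps, coe_aeval_eq_eval]
      exact isUnit_iff_ne_zero.mpr hP0
    obtain ⟨t', b', h'⟩ := heval (DualNumber.eps : DualNumber K) hεu
    obtain ⟨t'', b'', h''⟩ := h0
    have e := (F.inj (h''.symm.trans h')).1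
    rw [map_zero, zero_mul, sub_zero] at e
    have e2 := congrArg (aeval (DualNumber.eps : DualNumber K)) hid
    rw [map_mul, map_mul, map_sub, aeval_C, aeval_X, map_pow] at e2
    have e3 : algebraMap K (DualNumber K) z - DualNumber.eps = algebraMap K (DualNumber K) z := by
      have hinv := Ring.mul_inverse_cancel _ (hεu.pow n)
      generalize Ring.inverse (aeval (DualNumber.eps : DualNumber K) P ^ n) = ρ at hinv e
      linear_combination ρ * e2 + (algebraMap K (DualNumber K) z - DualNumber.eps) * e +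
        algebraMap K (DualNumber K) z * hinv
    have e4 := congrArg TrivSqZeroExt.snd e3
    simp [TrivSqZeroExt.algebraMap_eq_inl] at e4

/-- A rank one system of slope zero over an algebraically closed field is commutative. -/
theorem commute_of_slope_zero (h0 : F.IsSlope (0 : K))
    (hT : ∀ t : F.T K[X], F.tmap (Polynomial.aeval (0 : K)) t = 1 → t = 1)
    {A : Type u} [CommRing A] [Algebra K A] (x y : A) : F.u x * F.v y = F.v y * F.u x := by
  have hall : F.In (F.u (X : K[X]) * F.v 1) := by
    obtain ⟨J, hJ, hJφ⟩ := F.locus (F.u (X : K[X]) * F.v 1)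
    refine hJ.mpr ?_
    obtain ⟨g, rfl⟩ : ∃ g, J = Ideal.span {g} := ⟨_, (Ideal.span_singleton_generator J).symm⟩
    rw [Ideal.span_singleton_eq_top]
    have hne : ∀ r : K, g.eval r ≠ 0 := by
      intro r hr
      have h := (hJφ (Polynomial.aeval r)).mp (by
        rw [F.map_uv, map_one, aeval_X]; exact F.in_of_slope_zero h0 r)
      rw [Ideal.map_span, Set.image_singleton, Ideal.span_singleton_eq_top] at h
      exact h.ne_zero (by simpa [coe_aeval_eq_eval] using hr)
    by_contra hu
    have hg0 : g ≠ 0 := fun h => hne 0 (by rw [h, eval_zero])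
    obtain ⟨r, hr⟩ := IsAlgClosed.exists_root g (fun hdeg => hu (Polynomial.isUnit_iff_degree_eq_zero.mpr hdeg))
    exact hne r hr
  obtain ⟨a₀, t, P, h⟩ := hall
  have ha₀ : a₀ = 1 := by
    obtain ⟨r, hr, rfl⟩ := Polynomial.isUnit_iff.mp (F.isUnit_coord h)
    have h' := F.map_coords (Polynomial.aeval (0 : K)) h
    rw [map_one, aeval_X, F.u_zero, one_mul, aeval_C] at h'
    have e : F.v (1 : K) * F.i 1 * F.u 0 = F.v (1 : K) := by rw [map_one, F.u_zero, mul_one, mul_one]
    have e1 : r = (1 : K) := (F.inj (e.trans h')).1.symm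
    rw [e1, map_one]
  subst ha₀
  have ht : t = 1 := hT t (by
    have h' := F.map_coords (Polynomial.aeval (0 : K)) h
    rw [map_one, aeval_X, F.u_zero, one_mul] at h'
    have e : F.v (1 : K) * F.i 1 * F.u 0 = F.v (1 : K) := by rw [map_one, F.u_zero, mul_one, mul_one]
    exact (F.inj (e.trans h')).2.1.symm)
  subst ht
  rw [map_one, mul_one] at h
  have hr : ∀ {B : Type u} [CommRing B] [Algebra K B] (r : B), F.u r * F.v 1 = F.v 1 * F.u (aeval r P) := by
    intro B _ _ r
    have h' := congrArg (F.map (Polynomial.aeval r)) h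
    rw [F.map_uv, map_one, aeval_X, map_mul, F.v_map, map_one, F.u_map] at h'
    exact h'
  have hcinj : ∀ {B : Type u} [CommRing B] [Algebra K B] (c b b' : B), F.v c * F.u b = F.v c * F.u b' → b = b' := by
    intro B _ _ c b b' e
    refine (F.inj (a := c) (a' := c) (t := 1) (t' := 1) ?_).2.2
    simpa using e
  have hunit : ∀ {B : Type u} [CommRing B] [Algebra K B] (r : B) (c : Bˣ),
      F.u r * F.v (c : B) = F.v (c : B) * F.u (((c⁻¹ : Bˣ) : B) * aeval (r * c) P) := by
    intro B _ _ r c
    have := F.scale_eq c (x := r) (a := 1) (t₀ := 1) (b := aeval (r * c) P) (by rw [hr, map_one, mul_one])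
    simpa using this
  have hc0 : P.eval 0 = 0 := by
    have e := hr (0 : K)
    rw [F.u_zero, one_mul, coe_aeval_eq_eval] at e
    refine hcinj (1 : K) _ _ (e.symm.trans ?_)
    rw [F.u_zero, mul_one]
  have hadd : ∀ r r' : K, P.eval (r + r') = P.eval r + P.eval r' := by
    intro r r'
    refine hcinj (1 : K) _ _ ?_
    have h1 := hr (r + r')
    rw [coe_aeval_eq_eval] at h1
    rw [← h1, F.u_add, mul_assoc, hr, ← mul_assoc, hr, coe_aeval_eq_eval, coe_aeval_eq_eval, mul_assoc, ← F.u_add]
  have hid : ∀ r : K, X * (C (P.eval r) + P.comp (C r * X)) = (1 + X) * P.comp (C (P.eval r) * X) := by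
    intro r
    refine Polynomial.eq_of_infinite_eval_eq _ _ ((Set.Finite.infinite_compl
      ((Set.finite_singleton (-1 : K)).insert (0 : K))).mono ?_)
    intro w hw
    simp only [Set.mem_compl_iff, Set.mem_insert_iff, Set.mem_singleton_iff, not_or] at hw
    have hw1 : (1 : K) + w ≠ 0 := fun h => hw.2 (by linear_combination h)
    have h1 := hunit r (Units.mk0 _ hw1)
    have h2 := hunit (P.eval r) (Units.mk0 _ hw.1)
    simp only [Units.val_mk0, Units.val_inv_eq_inv_val, coe_aeval_eq_eval] at h1 h2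
    have h3 : F.u r * F.v (1 + w) = F.v (1 + w) * F.u (w⁻¹ * P.eval (P.eval r * w)) := by
      rw [F.v_add, ← mul_assoc, hr, coe_aeval_eq_eval, mul_assoc, h2, mul_assoc]
    have e := hcinj _ _ _ (h1.symm.trans h3)
    rw [mul_add r, mul_one, hadd] at e
    change eval w _ = eval w _
    simp only [eval_mul, eval_add, eval_X, eval_C, eval_one, eval_comp]
    have hA : (1 + w) * (1 + w)⁻¹ = 1 := mul_inv_cancel₀ hw1
    have hB : w * w⁻¹ = 1 := mul_inv_cancel₀ hw.1
    linear_combination (w * (1 + w)) * e - w * (P.eval r + P.eval (r * w)) * hA +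
      (1 + w) * P.eval (P.eval r * w) * hB
  have hc0' : P.coeff 0 = 0 := by rwa [coeff_zero_eq_eval_zero]
  have h1 : ∀ r, P.eval r = P.coeff 1 * P.eval r := by
    intro r
    simpa [hc0', add_mul, comp_C_mul_X_coeff, coeff_C] using congrArg (fun g : K[X] => g.coeff 1) (hid r)
  have h2 : ∀ r, P.coeff 1 * r = P.coeff 2 * P.eval r ^ 2 + P.coeff 1 * P.eval r := by
    intro r
    simpa [hc0', add_mul, comp_C_mul_X_coeff, coeff_C] using congrArg (fun g : K[X] => g.coeff 2) (hid r)
  have hne : ∃ r, P.eval r ≠ 0 := by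
    by_contra hh
    push Not at hh
    have e := hr (1 : K)
    rw [coe_aeval_eq_eval, hh, F.u_zero, mul_one] at e
    have e' : F.v (0 : K) * F.i 1 * F.u 1 = F.v 0 * F.i 1 * F.u 0 := by
      simpa [F.u_zero, F.v_zero] using e
    exact one_ne_zero (F.inj e').2.2
  obtain ⟨r₀, hr₀⟩ := hne
  have hc1 : P.coeff 1 = 1 := (mul_right_cancel₀ hr₀ ((one_mul _).trans (h1 r₀))).symm
  have hPX : P = X := by
    have hid2 : X = C (P.coeff 2) * P ^ 2 + P := Polynomial.funext fun r => by
      have e := h2 r
      rw [hc1, one_mul, one_mul] at e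
      simpa using e
    by_cases hc2 : P.coeff 2 = 0
    · rw [hc2, map_zero, zero_mul, zero_add] at hid2
      exact hid2.symm
    · exfalso
      have hd : P.natDegree ≠ 0 := by
        intro hd
        rw [eq_C_of_natDegree_eq_zero hd, hc0', map_zero, eval_zero] at hr₀
        exact hr₀ rfl
      have hd2 : (C (P.coeff 2) * P ^ 2).natDegree = 2 * P.natDegree := by
        rw [natDegree_C_mul hc2, natDegree_pow]
      have := congrArg Polynomial.natDegree hid2
      rw [natDegree_X, natDegree_add_eq_left_of_natDegree_lt (by omega), hd2] at this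
      omega
  subst hPX
  have hu : ∀ {B : Type u} [CommRing B] [Algebra K B] (r : B) (c : Bˣ), F.u r * F.v (c : B) = F.v (c : B) * F.u r := by
    intro B _ _ r c
    rw [hunit, aeval_X, mul_left_comm, Units.inv_mul, mul_one]
  let f : A[X] := X * (C y - X)
  let φ : A →ₐ[K] Localization.Away f := IsScalarTower.toAlgHom K A (Localization.Away f)
  have hff : φ.toRingHom.FaithfullyFlat := faithfullyFlat_away f fun p hp => by
    haveI := hp
    simp only [f, Polynomial.map_mul, Polynomial.map_sub, map_X, map_C]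
    exact mul_ne_zero X_ne_zero fun h => by simpa using congrArg (fun g : (A ⧸ p)[X] => g.coeff 1) h
  refine F.descent φ hff ?_
  have hf : IsUnit (algebraMap A[X] (Localization.Away f) f) := IsLocalization.Away.algebraMap_isUnit f
  rw [map_mul, map_sub, IsUnit.mul_iff,
    show algebraMap A[X] (Localization.Away f) (C y) = φ y from
      (IsScalarTower.algebraMap_apply A A[X] (Localization.Away f) y).symm] at hf
  obtain ⟨⟨c₁, hc₁⟩, ⟨c₂, hc₂⟩⟩ := hf
  rw [F.map_uv, map_mul, F.u_map, F.v_map,
    show φ y = (c₁ : Localization.Away f) + c₂ by rw [hc₁, hc₂]; ring, F.v_add]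
  rw [← mul_assoc, hu, mul_assoc, hu, mul_assoc]

end CellFun

end GrothLib.RankComm14
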