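import Groth.Agent.Lib.RankComm14.Commute
import Groth.Agent.Lib.RankCell14.Cover
import Groth.Agent.Lib.RankCell14.Weight
import Groth.Agent.Lib.SubTorus14.Join
import Groth.Agent.Lib.CharFib14.Basic

/-!
The cell functor of a rank one system over an affine scheme above the base.
-/

universe u

open CategoryTheory MonoidalCategory CartesianMonoidalCategory MonObj GrpObj AlgebraicGeometry
open CategoryTheory.Limits

set_option backward.isDefEq.respectTransparency false

namespace GrothLib.RankComm14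

open GrothLib.RedPts GrothLib.RankCell14

/-- The hypotheses of a rank one system without coroot. -/
structure Sys {S : Scheme.{u}} {G T : Over S} [GrpObj G] [GrpObj T] (i : T ⟶ G) (α : T ⟶ Red.Gm S)
    (pp pm : Red.Ga S ⟶ G) : Prop where
  monI : IsMonHom i
  monα : IsMonHom α
  monP : IsMonHom pp
  monM : IsMonHom pm
  hT : Red.IsTorus T
  hα : ∀ s : S, (Over.pullback (Red.geomPt s)).map α ≠ 1
  hpp : ∀ (X : Over S) (t : X ⟶ T) (x : X ⟶ Red.Ga S), ∃ x' : X ⟶ Red.Ga S,
    x' ≫ pp = (t ≫ i) * (x ≫ pp) * (t ≫ i)⁻¹ ∧ Red.gaFn x' = Red.gmFn (t ≫ α) * Red.gaFn x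
  hpm : ∀ (X : Over S) (t : X ⟶ T) (y : X ⟶ Red.Ga S), ∃ y' : X ⟶ Red.Ga S,
    y' ≫ pm = (t ≫ i) * (y ≫ pm) * (t ≫ i)⁻¹ ∧ Red.gaFn y' * Red.gmFn (t ≫ α) = Red.gaFn y
  hΩ : IsOpenImmersion (cell i pp pm).left

variable {S : Scheme.{u}} {R : Type u} [CommRing R] (σ : Spec (CommRingCat.of R) ⟶ S)

/-- The scheme over `S` of an algebra over an affine scheme above `S`. -/
noncomputable def ob (A : Type u) [CommRing A] [Algebra R A] : Over S :=
  Over.mk (Spec.map (CommRingCat.ofHom (algebraMap R A)) ≫ σ)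

/-- The morphism of a map of algebras. -/
noncomputable def obMap {A B : Type u} [CommRing A] [Algebra R A] [CommRing B] [Algebra R B] (φ : A →ₐ[R] B) :
    ob σ B ⟶ ob σ A :=
  Over.homMk (Spec.map (CommRingCat.ofHom φ.toRingHom)) (by
    change Spec.map (CommRingCat.ofHom φ.toRingHom) ≫ Spec.map (CommRingCat.ofHom (algebraMap R A)) ≫ σ =
      Spec.map (CommRingCat.ofHom (algebraMap R B)) ≫ σ
    rw [← Category.assoc, ← Spec.map_comp]
    congr 2
    ext r
    exact φ.commutes r)

/-- A ring element as a function. -/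
noncomputable def toFn (A : Type u) [CommRing A] [Algebra R A] : A ≃+* Γ((ob σ A).left, ⊤) :=
  ((Scheme.ΓSpecIso (CommRingCat.of A)).commRingCatIsoToRingEquiv).symm

theorem toFn_map {A B : Type u} [CommRing A] [Algebra R A] [CommRing B] [Algebra R B] (φ : A →ₐ[R] B) (a : A) :
    (obMap σ φ).left.appTop (toFn σ A a) = toFn σ B (φ a) :=
  specMap_appTop (CommRingCat.ofHom φ.toRingHom) a

theorem epi_obMap {A B : Type u} [CommRing A] [Algebra R A] [CommRing B] [Algebra R B] (φ : A →ₐ[R] B)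
    (h : φ.toRingHom.FaithfullyFlat) : Epi (obMap σ φ) := by
  obtain ⟨hf, hs⟩ := RingHom.FaithfullyFlat.iff_flat_and_comap_surjective.mp h
  haveI : Flat (Spec.map (CommRingCat.ofHom φ.toRingHom)) := (HasRingHomProperty.Spec_iff (P := @Flat)).mpr hf
  haveI : Surjective (Spec.map (CommRingCat.ofHom φ.toRingHom)) := ⟨hs⟩
  haveI : Epi (Spec.map (CommRingCat.ofHom φ.toRingHom)) := Flat.epi_of_flat_of_surjective _
  exact ⟨fun u v e => Over.OverMorphism.ext ((cancel_epi (Spec.map (CommRingCat.ofHom φ.toRingHom))).mp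
    (congrArg Over.Hom.left e))⟩

variable {G T : Over S} [GrpObj G] [GrpObj T] {i : T ⟶ G} {α : T ⟶ Red.Gm S} {pp pm : Red.Ga S ⟶ G}

/-- Points of the torus form a commutative group. -/
@[reducible] noncomputable def commGrp (hT : Red.IsTorus T) (X : Over S) : CommGroup (X ⟶ T) :=
  { (inferInstance : Group (X ⟶ T)) with
    mul_comm := fun a b =>
      GrothLib.DiagGrp.mul_comm_of_charts (GrothLib.DiagGrp.hasChartsFpqc_of_isTorus hT) X a b }

theorem exists_locus_of_open (X : Scheme.{u}) (A : CommRingCat.{u}) (g : Spec A ⟶ X) (U : X.Opens) :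
    ∃ J : Ideal A, ((∀ z, g.base z ∈ U) ↔ J = ⊤) ∧
      ∀ (B : CommRingCat.{u}) (φ : A ⟶ B), (∀ z, g.base ((Spec.map φ).base z) ∈ U) ↔ J.map φ.hom = ⊤ := by
  let C : Set (PrimeSpectrum A) := {z | g.base z ∉ U}
  have hC : IsClosed C := (U.2.preimage g.continuous).isClosed_compl
  refine ⟨PrimeSpectrum.vanishingIdeal C, ?_, fun B φ => ?_⟩
  · rw [← PrimeSpectrum.zeroLocus_empty_iff_eq_top, PrimeSpectrum.zeroLocus_vanishingIdeal_eq_closure,
      hC.closure_eq, Set.eq_empty_iff_forall_notMem]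
    exact forall_congr' fun z => not_not.symm
  · rw [← PrimeSpectrum.zeroLocus_empty_iff_eq_top, Ideal.map, PrimeSpectrum.zeroLocus_span,
      ← PrimeSpectrum.preimage_comap_zeroLocus, PrimeSpectrum.zeroLocus_vanishingIdeal_eq_closure,
      hC.closure_eq, Set.eq_empty_iff_forall_notMem]
    exact forall_congr' fun z => not_not.symm

theorem Sys.isAffineHom (H : Sys i α pp pm) : IsAffineHom α.left := by
  haveI : IsAffineHom T.hom := EssFree.isAffineHom_multTypeFT T
    (QuotTorus14.isMultTypeFT_of_charts (GrothLib.DiagGrp.hasChartsFpqc_of_isTorus H.hT))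
  haveI : IsAffineHom (α.left ≫ (Red.Gm S).hom) := by rw [Over.w α]; infer_instance
  haveI : IsAffineHom (Red.diag (ULift.{u} ℤ) ℤ).hom :=
    inferInstanceAs (IsAffineHom (Spec.map (CommRingCat.ofHom (algebraMap (ULift.{u} ℤ) _))))
  haveI : IsAffineHom (Red.Gm S).hom := MorphismProperty.pullback_snd (P := @IsAffineHom) _ _ ‹IsAffineHom (Red.diag (ULift.{u} ℤ) ℤ).hom›
  haveI : IsSeparated (Red.Gm S).hom := inferInstance
  exact MorphismProperty.of_postcomp (W := @IsAffineHom) (W' := @IsSeparated) _ _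
    ‹IsSeparated (Red.Gm S).hom› ‹_›

theorem Sys.exists_cover (H : Sys i α pp pm) {A : Type u} [CommRing A] [Algebra R A] (c : Aˣ) :
    ∃ (B : Type u) (_ : CommRing B) (_ : Algebra R B) (φ : A →ₐ[R] B) (t : ob σ B ⟶ T),
      φ.toRingHom.FaithfullyFlat ∧ Red.gmFn (t ≫ α) = toFn σ B (φ c) := by
  haveI := H.monα
  haveI := H.isAffineHom
  obtain ⟨hfl, hsur⟩ := GrothLib.CharFib14.flat_surjective_of_base_changes H.hT α
    (fun S' g hS' => GrothLib.CharFib14.ne_one_of_geomFibres α H.hα g hS')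
  let z : ob σ A ⟶ Red.Gm S := GmPts.ptOfUnit (Units.map (toFn σ A).toRingHom.toMonoidHom c)
  let Y := pullback z.left α.left
  haveI : IsAffineHom (pullback.fst z.left α.left) := MorphismProperty.pullback_fst (P := @IsAffineHom) _ _ ‹IsAffineHom α.left›
  haveI : IsAffine (ob σ A).left := inferInstanceAs (IsAffine (Spec (CommRingCat.of A)))
  haveI : IsAffine Y := isAffine_of_isAffineHom (pullback.fst z.left α.left)
  let f : Spec Γ(Y, ⊤) ⟶ Spec (CommRingCat.of A) := Y.isoSpec.inv ≫ pullback.fst z.left α.left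
  let φ₀ : CommRingCat.of A ⟶ Γ(Y, ⊤) := Spec.preimage f
  letI : Algebra R Γ(Y, ⊤) := (φ₀.hom.comp (algebraMap R A)).toAlgebra
  let φ : A →ₐ[R] Γ(Y, ⊤) := { φ₀.hom with commutes' := fun _ => rfl }
  have hf : Spec.map (CommRingCat.ofHom φ.toRingHom) = f := Spec.map_preimage f
  let t : ob σ Γ(Y, ⊤) ⟶ T := Over.homMk (Y.isoSpec.inv ≫ pullback.snd z.left α.left) (by
    change _ = Spec.map (CommRingCat.ofHom (φ.toRingHom.comp (algebraMap R A))) ≫ σ
    rw [CommRingCat.ofHom_comp, Spec.map_comp, hf]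
    change (Y.isoSpec.inv ≫ pullback.snd z.left α.left) ≫ T.hom = _
    rw [← Over.w α, Category.assoc, ← pullback.condition_assoc, Over.w z]
    simp only [f, Category.assoc]
    rfl)
  refine ⟨Γ(Y, ⊤), inferInstance, inferInstance, φ, t, ?_, ?_⟩
  · haveI : Flat α.left := hfl
    haveI : Surjective α.left := hsur
    haveI : Flat f := inferInstance
    haveI : Surjective f := inferInstance
    refine RingHom.FaithfullyFlat.iff_flat_and_comap_surjective.mpr ⟨?_, ?_⟩
    · have h : Flat (Spec.map (CommRingCat.ofHom φ.toRingHom)) := hf ▸ ‹Flat f›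
      exact (HasRingHomProperty.Spec_iff (P := @Flat)).mp h
    · exact (hf ▸ ‹Surjective f› : Surjective (Spec.map (CommRingCat.ofHom φ.toRingHom))).surj
  · have h : t ≫ α = obMap σ φ ≫ z := by
      apply Over.OverMorphism.ext
      change (Y.isoSpec.inv ≫ pullback.snd z.left α.left) ≫ α.left = Spec.map (CommRingCat.ofHom φ.toRingHom) ≫ z.left
      rw [hf, Category.assoc, ← pullback.condition]
      simp only [f, Category.assoc]
    rw [h, GmPts.gmFn_comp, GmPts.gmFn_ptOfUnit]
    exact toFn_map σ φ c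

/-- The cell functor on algebras over an affine scheme above the base. -/
noncomputable def Sys.fn (H : Sys i α pp pm) : CellFun R :=
  haveI := H.monI
  haveI := H.monα
  haveI := H.monP
  haveI := H.monM
  haveI := H.hΩ
  letI : ∀ (A : Type u) [CommRing A] [Algebra R A], CommGroup (ob σ A ⟶ T) := fun A _ _ => commGrp H.hT (ob σ A)
  { P := fun A _ _ => ob σ A ⟶ G
    T := fun A _ _ => ob σ A ⟶ T
    grpP := fun A _ _ => inferInstanceAs (Group (ob σ A ⟶ G))
    grpT := fun A _ _ => commGrp H.hT (ob σ A)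
    map := fun φ =>
      { toFun := fun g => obMap σ φ ≫ g
        map_one' := MonObj.comp_one _
        map_mul' := fun _ _ => MonObj.comp_mul _ _ _ }
    tmap := fun φ =>
      { toFun := fun g => obMap σ φ ≫ g
        map_one' := MonObj.comp_one _
        map_mul' := fun _ _ => MonObj.comp_mul _ _ _ }
    u := fun {A} _ _ a => gaPt (toFn σ A a) ≫ pp
    v := fun {A} _ _ a => gaPt (toFn σ A a) ≫ pm
    i := fun {A} _ _ =>
      { toFun := fun t => t ≫ i
        map_one' := MonObj.one_comp i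
        map_mul' := fun _ _ => MonObj.mul_comp _ _ i }
    χ := fun {A} _ _ =>
      { toFun := fun t => Units.map (toFn σ A).symm.toRingHom.toMonoidHom (GmPts.unitOfPt (t ≫ α))
        map_one' := by rw [MonObj.one_comp, GmPts.unitOfPt_one, map_one]
        map_mul' := fun a b => by rw [MonObj.mul_comp, GmPts.unitOfPt_mul, map_mul] }
    u_add := fun {A} _ _ a b => by rw [map_add, gaPt_add, MonObj.mul_comp]
    v_add := fun {A} _ _ a b => by rw [map_add, gaPt_add, MonObj.mul_comp]
    u_map := fun {A B} _ _ _ _ φ a => by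
      change obMap σ φ ≫ gaPt (toFn σ A a) ≫ pp = gaPt (toFn σ B (φ a)) ≫ pp
      rw [← Category.assoc, gaPt_comp, toFn_map]
    v_map := fun {A B} _ _ _ _ φ a => by
      change obMap σ φ ≫ gaPt (toFn σ A a) ≫ pm = gaPt (toFn σ B (φ a)) ≫ pm
      rw [← Category.assoc, gaPt_comp, toFn_map]
    i_map := fun {A B} _ _ _ _ φ t => by
      change obMap σ φ ≫ (t ≫ i) = (obMap σ φ ≫ t) ≫ i
      rw [Category.assoc]
    χ_map := fun {A B} _ _ _ _ φ t => by
      change (toFn σ B).symm (Red.gmFn ((obMap σ φ ≫ t) ≫ α)) = φ ((toFn σ A).symm (Red.gmFn (t ≫ α)))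
      rw [RingEquiv.symm_apply_eq, ← toFn_map, RingEquiv.apply_symm_apply, Category.assoc, GmPts.gmFn_comp]
    conj_u := fun {A} _ _ t a => by
      obtain ⟨x', h1, h2⟩ := H.hpp _ t (gaPt (toFn σ A a))
      rw [gaFn_gaPt] at h2
      have hx : x' = gaPt (toFn σ A ((toFn σ A).symm (Red.gmFn (t ≫ α)) * a)) := gaFn_injective (by
        rw [gaFn_gaPt, map_mul, RingEquiv.apply_symm_apply, h2])
      change (t ≫ i) * (gaPt (toFn σ A a) ≫ pp) =
        (gaPt (toFn σ A ((toFn σ A).symm (Red.gmFn (t ≫ α)) * a)) ≫ pp) * (t ≫ i)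
      rw [← hx, h1, inv_mul_cancel_right]
    conj_v := fun {A} _ _ t a => by
      obtain ⟨y', h1, h2⟩ := H.hpm _ t (gaPt (toFn σ A a))
      rw [gaFn_gaPt] at h2
      change (t ≫ i) * (gaPt (toFn σ A a) ≫ pm) = (gaPt (toFn σ A
        (((Units.map (toFn σ A).symm.toRingHom.toMonoidHom (GmPts.unitOfPt (t ≫ α)))⁻¹ : Aˣ) * a)) ≫ pm) * (t ≫ i)
      have hx : y' = gaPt (toFn σ A
          (((Units.map (toFn σ A).symm.toRingHom.toMonoidHom (GmPts.unitOfPt (t ≫ α)))⁻¹ : Aˣ) * a)) :=
        gaFn_injective (by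
          rw [gaFn_gaPt, ← map_inv, map_mul, Units.coe_map, ← h2]
          change _ = toFn σ A ((toFn σ A).symm _) * _
          rw [RingEquiv.apply_symm_apply, mul_comm (Red.gaFn y')]
          exact (Units.inv_mul_cancel_left (GmPts.unitOfPt (t ≫ α)) (Red.gaFn y')).symm)
      rw [← hx, h1, inv_mul_cancel_right]
    inj := fun {A} _ _ a a' b b' t t' h => by
      obtain ⟨h1, h2, h3⟩ := cell_inj i pp pm h
      refine ⟨(toFn σ A).injective ?_, h2, (toFn σ A).injective ?_⟩
      · simpa [gaFn_gaPt] using congrArg Red.gaFn h1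
      · simpa [gaFn_gaPt] using congrArg Red.gaFn h3
    locus := fun {A} _ _ g => by
      obtain ⟨J, hJ, hJφ⟩ := exists_locus_of_open G.left (CommRingCat.of A) g.left (cell i pp pm).left.opensRange
      have key : ∀ {B : Type u} [CommRing B] [Algebra R B] (k : ob σ B ⟶ G),
          (∃ (a : B) (t : ob σ B ⟶ T) (b : B),
            k = (gaPt (toFn σ B a) ≫ pm) * (t ≫ i) * (gaPt (toFn σ B b) ≫ pp)) ↔
          ∀ z, k.left.base z ∈ (cell i pp pm).left.opensRange := by
        intro B _ _ k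
        constructor
        · rintro ⟨a, t, b, h⟩ z
          exact mem_range_cell i pp pm h z
        · intro h
          obtain ⟨y, t, x, h⟩ := exists_coords i pp pm k h
          refine ⟨(toFn σ B).symm (Red.gaFn y), t, (toFn σ B).symm (Red.gaFn x), ?_⟩
          rw [RingEquiv.apply_symm_apply, RingEquiv.apply_symm_apply, gaPt_gaFn, gaPt_gaFn]
          exact h
      refine ⟨J, (key g).trans hJ, fun {B} _ _ φ => (key (obMap σ φ ≫ g)).trans (Iff.trans ?_ (hJφ (CommRingCat.of B) (CommRingCat.ofHom φ.toRingHom)))⟩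
      exact forall_congr' fun z => Iff.rfl
    cover := fun {A} _ _ c => by
      obtain ⟨B, i1, i2, φ, t, h1, h2⟩ := H.exists_cover σ c
      refine ⟨B, i1, i2, φ, t, h1, ?_⟩
      change (toFn σ B).symm (Red.gmFn (t ≫ α)) = φ c
      rw [h2, RingEquiv.symm_apply_apply]
    descent := fun {A B} _ _ _ _ φ h a b hab => by
      haveI := epi_obMap σ φ h
      exact (cancel_epi (obMap σ φ)).mp hab }

end GrothLib.RankComm14
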