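import Groth.Agent.Lib.RankComm14.Main

/-!
The commutation formula of a rank one system over an arbitrary base, with slope and cocharacter.
-/

universe u

open CategoryTheory MonoidalCategory CartesianMonoidalCategory MonObj GrpObj AlgebraicGeometry
open CategoryTheory.Limits

set_option backward.isDefEq.respectTransparency false

namespace GrothLib.RankComm14

open GrothLib.RedPts GrothLib.RankCell14

variable {S : Scheme.{u}} {G T : Over S} [GrpObj G] [GrpObj T] {i : T ⟶ G} {α : T ⟶ Red.Gm S}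
  {pp pm : Red.Ga S ⟶ G}

/-- An affine open of a scheme over `S`, as the spectrum of a trivial algebra. -/
noncomputable def chartMor (Y : Over S) (B : Type u) [CommRing B] (f : Spec (CommRingCat.of B) ⟶ Y.left) :
    ob (R := B) (f ≫ Y.hom) B ⟶ Y :=
  Over.homMk f (by
    change f ≫ Y.hom = Spec.map (CommRingCat.ofHom (algebraMap B B)) ≫ f ≫ Y.hom
    rw [show CommRingCat.ofHom (algebraMap B B) = 𝟙 (CommRingCat.of B) from rfl, Spec.map_id]
    rfl)

/-- The restriction of functions to a chart. -/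
noncomputable def cf (Y : Over S) (B : Type u) [CommRing B] (f : Spec (CommRingCat.of B) ⟶ Y.left) :
    Γ(Y.left, ⊤) →+* B :=
  (toFn (f ≫ Y.hom) B).symm.toRingHom.comp (chartMor Y B f).left.appTop.hom

theorem chartMor_gaPt (Y : Over S) (B : Type u) [CommRing B] (f : Spec (CommRingCat.of B) ⟶ Y.left)
    (x : Y ⟶ Red.Ga S) : chartMor Y B f ≫ x = gaPt (toFn (f ≫ Y.hom) B (cf Y B f (Red.gaFn x))) := by
  apply gaFn_injective
  rw [gaFn_comp, gaFn_gaPt]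
  exact ((toFn (f ≫ Y.hom) B).apply_symm_apply _).symm

theorem isUnit_cf_iff (Y : Over S) (B : Type u) [CommRing B] (f : Spec (CommRingCat.of B) ⟶ Y.left)
    (z : Γ(Y.left, ⊤)) : IsUnit (cf Y B f z) ↔ IsUnit (f.appTop z) :=
  MulEquiv.isUnit_map (toFn (f ≫ Y.hom) B).symm

theorem appTop_eq_of_cf (Y : Over S) (B : Type u) [CommRing B] (f : Spec (CommRingCat.of B) ⟶ Y.left)
    {a b : Γ(Y.left, ⊤)} (h : cf Y B f a = cf Y B f b) : f.appTop a = f.appTop b :=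
  (toFn (f ≫ Y.hom) B).symm.injective h

theorem cf_hom (Y : Over S) (B : Type u) [CommRing B] (f : Spec (CommRingCat.of B) ⟶ Y.left) {a : Γ(S, ⊤)} {r : B}
    (e : (f ≫ Y.hom).appTop a = (Scheme.ΓSpecIso (CommRingCat.of B)).inv r) :
    cf Y B f (Y.hom.appTop a) = algebraMap B B r := by
  change (toFn (f ≫ Y.hom) B).symm ((f ≫ Y.hom).appTop a) = r
  rw [RingEquiv.symm_apply_eq]
  exact e

theorem chartMor_uv (H : Sys i α pp pm) (Y : Over S) (B : Type u) [CommRing B]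
    (f : Spec (CommRingCat.of B) ⟶ Y.left) (x y : Y ⟶ Red.Ga S) :
    chartMor Y B f ≫ ((x ≫ pp) * (y ≫ pm)) =
      (H.fn (f ≫ Y.hom)).u (cf Y B f (Red.gaFn x)) * (H.fn (f ≫ Y.hom)).v (cf Y B f (Red.gaFn y)) := by
  rw [MonObj.comp_mul, ← Category.assoc, ← Category.assoc, chartMor_gaPt, chartMor_gaPt]
  rfl

theorem chartMor_cell (H : Sys i α pp pm) (Y : Over S) (B : Type u) [CommRing B]
    (f : Spec (CommRingCat.of B) ⟶ Y.left) (x' y' : Y ⟶ Red.Ga S) (t : Y ⟶ T) :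
    chartMor Y B f ≫ ((y' ≫ pm) * (t ≫ i) * (x' ≫ pp)) =
      (H.fn (f ≫ Y.hom)).v (cf Y B f (Red.gaFn y')) * (H.fn (f ≫ Y.hom)).i (chartMor Y B f ≫ t) *
        (H.fn (f ≫ Y.hom)).u (cf Y B f (Red.gaFn x')) := by
  rw [MonObj.comp_mul, MonObj.comp_mul, ← Category.assoc, ← Category.assoc, ← Category.assoc, chartMor_gaPt,
    chartMor_gaPt]
  rfl

/-- The formula on a chart. -/
theorem chart_rule (H : Sys i α pp pm) (Y : Over S) (B : Type u) [CommRing B]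
    (f : Spec (CommRingCat.of B) ⟶ Y.left) {a : Γ(S, ⊤)} {r : Bˣ} (hr : (H.fn (f ≫ Y.hom)).IsSlope (r : B))
    (e : (f ≫ Y.hom).appTop a = (Scheme.ΓSpecIso (CommRingCat.of B)).inv (r : B)) (x y : Y ⟶ Red.Ga S) :
    (InC i pp pm (chartMor Y B f ≫ ((x ≫ pp) * (y ≫ pm))) ↔
        IsUnit (f.appTop (1 + Y.hom.appTop a * Red.gaFn x * Red.gaFn y))) ∧
      ∀ (x' y' : Y ⟶ Red.Ga S) (t : Y ⟶ T), (x ≫ pp) * (y ≫ pm) = (y' ≫ pm) * (t ≫ i) * (x' ≫ pp) →
        f.appTop (Red.gaFn x' * (1 + Y.hom.appTop a * Red.gaFn x * Red.gaFn y)) = f.appTop (Red.gaFn x) ∧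
        f.appTop (Red.gaFn y' * (1 + Y.hom.appTop a * Red.gaFn x * Red.gaFn y)) = f.appTop (Red.gaFn y) ∧
        (H.fn (f ≫ Y.hom)).IsH r (cf Y B f (1 + Y.hom.appTop a * Red.gaFn x * Red.gaFn y))
          (chartMor Y B f ≫ t) := by
  have ez : cf Y B f (1 + Y.hom.appTop a * Red.gaFn x * Red.gaFn y) =
      1 + algebraMap B B (r : B) * cf Y B f (Red.gaFn x) * cf Y B f (Red.gaFn y) := by
    rw [map_add, map_mul, map_mul, map_one, cf_hom Y B f e]
  constructor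
  · rw [inC_iff H, chartMor_uv H, ← isUnit_cf_iff, ez]
    exact CellFun.in_iff_isUnit hr r.isUnit _ _
  · intro x' y' t he
    have h1 := congrArg (chartMor Y B f ≫ ·) he
    simp only [chartMor_uv H, chartMor_cell H] at h1
    have hu : IsUnit (1 + algebraMap B B (r : B) * cf Y B f (Red.gaFn x) * cf Y B f (Red.gaFn y)) :=
      (CellFun.in_iff_isUnit hr r.isUnit _ _).mp ⟨_, _, _, h1⟩
    obtain ⟨a₁, b₁, t₁, ha₁, hb₁, ht₁, e₁⟩ := CellFun.rule hr hu
    obtain ⟨ea, et, eb⟩ := (H.fn (f ≫ Y.hom)).inj (h1.symm.trans e₁)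
    refine ⟨appTop_eq_of_cf Y B f ?_, appTop_eq_of_cf Y B f ?_, ?_⟩
    · rw [map_mul, ez, eb, hb₁]
    · rw [map_mul, ez, ea, ha₁]
    · rw [ez, et]; exact ht₁

/-- The cocharacter condition on a point of `𝔾_m`. -/
def IsCochar (i : T ⟶ G) (pp pm : Red.Ga S ⟶ G) (ainv : Γ(S, ⊤)) {Y : Over S} (z : Y ⟶ Red.Gm S) (t : Y ⟶ T) : Prop :=
  ∃ p q : Y ⟶ Red.Ga S, (gaPt ((Red.gmFn z - 1) * Y.hom.appTop ainv) ≫ pp) * (gaPt 1 ≫ pm) =
    (p ≫ pm) * (t ≫ i) * (q ≫ pp)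

theorem IsCochar.comp {ainv : Γ(S, ⊤)} {Y Y' : Over S} {z : Y ⟶ Red.Gm S} {t : Y ⟶ T}
    (h : IsCochar i pp pm ainv z t) (k : Y' ⟶ Y) : IsCochar i pp pm ainv (k ≫ z) (k ≫ t) := by
  obtain ⟨p, q, h⟩ := h
  refine ⟨k ≫ p, k ≫ q, ?_⟩
  have h' := congrArg (k ≫ ·) h
  simp only [MonObj.comp_mul, ← Category.assoc] at h'
  rw [gaPt_comp, gaPt_comp, map_mul, map_sub, map_one, ← GmPts.gmFn_comp] at h'
  have hw : k.left.appTop (Y.hom.appTop ainv) = Y'.hom.appTop ainv := by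
    rw [← Over.w k, Scheme.Hom.comp_appTop]; rfl
  rw [hw] at h'
  exact h'

variable (H : Sys i α pp pm)
variable (hnc : ∀ s : S, ∃ (X : Over (Spec (CommRingCat.of (AlgebraicClosure (S.residueField s)))))
  (x y : X ⟶ Red.bc (Red.geomPt s) (Red.Ga S)),
  (x ≫ (Over.pullback (Red.geomPt s)).map pp) * (y ≫ (Over.pullback (Red.geomPt s)).map pm) ≠
    (y ≫ (Over.pullback (Red.geomPt s)).map pm) * (x ≫ (Over.pullback (Red.geomPt s)).map pp))

include H hnc in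
/-- The commutation formula of a rank one system. -/
theorem exists_formula : ∃ (a : Γ(S, ⊤)) (h : Red.Gm S ⟶ T), IsUnit a ∧ IsMonHom h ∧
    h ≫ α = (𝟙 (Red.Gm S)) ^ 2 ∧
    ∀ (X : Over S) (x y : X ⟶ Red.Ga S),
      (InC i pp pm ((x ≫ pp) * (y ≫ pm)) ↔ IsUnit (1 + X.hom.appTop a * Red.gaFn x * Red.gaFn y)) ∧
      (IsUnit (1 + X.hom.appTop a * Red.gaFn x * Red.gaFn y) →
        ∃ (x' y' : X ⟶ Red.Ga S) (z : X ⟶ Red.Gm S),
          Red.gmFn z = 1 + X.hom.appTop a * Red.gaFn x * Red.gaFn y ∧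
          Red.gaFn x' * Red.gmFn z = Red.gaFn x ∧ Red.gaFn y' * Red.gmFn z = Red.gaFn y ∧
          (x ≫ pp) * (y ≫ pm) = (y' ≫ pm) * (z ≫ h ≫ i) * (x' ≫ pp)) := by
  haveI := H.hΩ
  haveI := H.monI
  haveI := H.monα
  obtain ⟨a, hau, hloc⟩ := exists_good H hnc
  have hgood : Good i pp pm (𝟙 S) a := by
    intro Y h hh x y
    rw [Category.comp_id] at hh
    subst hh
    let 𝒰 := Y.left.affineOpenCover
    have hin : InC i pp pm ((x ≫ pp) * (y ≫ pm)) ↔ IsUnit (1 + Y.hom.appTop a * Red.gaFn x * Red.gaFn y) := by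
      constructor
      · intro hg
        refine isUnit_of_cover 𝒰.openCover fun j => ?_
        obtain ⟨r, hr, e⟩ := hloc (R := 𝒰.X j) (𝒰.f j ≫ Y.hom)
        refine (chart_rule H Y (𝒰.X j) (𝒰.f j) hr e x y).1.mp fun w => ?_
        rw [Over.comp_left, Scheme.Hom.comp_apply]
        exact hg _
      · intro hu w
        obtain ⟨j, w', rfl⟩ := 𝒰.openCover.exists_eq w
        obtain ⟨r, hr, e⟩ := hloc (R := 𝒰.X j) (𝒰.f j ≫ Y.hom)
        have h := (chart_rule H Y (𝒰.X j) (𝒰.f j) hr e x y).1.mpr (hu.map (𝒰.f j).appTop.hom) w'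
        rw [Over.comp_left, Scheme.Hom.comp_apply] at h
        exact h
    refine ⟨hin, fun hu => ?_⟩
    obtain ⟨y', t, x', he⟩ := exists_coords i pp pm _ (hin.mpr hu)
    refine ⟨x', y', t, eq_of_cover 𝒰.openCover fun j => ?_, eq_of_cover 𝒰.openCover fun j => ?_, he⟩
    · obtain ⟨r, hr, e⟩ := hloc (R := 𝒰.X j) (𝒰.f j ≫ Y.hom)
      exact ((chart_rule H Y (𝒰.X j) (𝒰.f j) hr e x y).2 x' y' t he).1
    · obtain ⟨r, hr, e⟩ := hloc (R := 𝒰.X j) (𝒰.f j ≫ Y.hom)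
      exact ((chart_rule H Y (𝒰.X j) (𝒰.f j) hr e x y).2 x' y' t he).2.1
  obtain ⟨au, hau'⟩ := hau
  obtain ⟨ai, hai⟩ : ∃ ai : Γ(S, ⊤), ai = ((au⁻¹ : (Γ(S, ⊤))ˣ) : Γ(S, ⊤)) := ⟨_, rfl⟩
  have hmul : ∀ (X : Over S), X.hom.appTop a * X.hom.appTop ai = 1 := fun X => by
    rw [← map_mul, ← hau', hai, Units.mul_inv, map_one]
  have hex : ∀ (X : Over S) (z : X ⟶ Red.Gm S), ∃ t, IsCochar i pp pm ai z t := by
    intro X z
    have hu : IsUnit (1 + X.hom.appTop a * Red.gaFn (gaPt ((Red.gmFn z - 1) * X.hom.appTop ai) : X ⟶ Red.Ga S) *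
        Red.gaFn (gaPt 1 : X ⟶ Red.Ga S)) := by
      rw [gaFn_gaPt, gaFn_gaPt]
      convert GmPts.isUnit_gmFn z using 1
      linear_combination (Red.gmFn z - 1) * hmul X
    obtain ⟨x', y', t, -, -, e⟩ := (hgood X X.hom (Category.comp_id _) _ _).2 hu
    exact ⟨t, y', x', e⟩
  obtain ⟨h, hh⟩ := hex _ (𝟙 (Red.Gm S))
  have hun : ∀ {X : Over S} {z : X ⟶ Red.Gm S} {t : X ⟶ T}, IsCochar i pp pm ai z t → t = z ≫ h := by
    intro X z t ht
    obtain ⟨p, q, e⟩ := ht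
    obtain ⟨p', q', e'⟩ := hh.comp z
    rw [Category.comp_id] at e'
    exact (cell_inj i pp pm (e.symm.trans e')).2.1
  -- the cocharacter on an affine chart
  have hH : ∀ (X : Over S) (B : Type u) [CommRing B] (f : Spec (CommRingCat.of B) ⟶ X.left) (r : Bˣ),
      (f ≫ X.hom).appTop a = (Scheme.ΓSpecIso (CommRingCat.of B)).inv (r : B) →
      ∀ z : X ⟶ Red.Gm S, (H.fn (f ≫ X.hom)).IsH r (cf X B f (Red.gmFn z)) (chartMor X B f ≫ z ≫ h) := by
    intro X B _ f r e z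
    have ei : cf X B f (X.hom.appTop ai) = algebraMap B B ((r⁻¹ : Bˣ) : B) := by
      have h1 : cf X B f (X.hom.appTop a * X.hom.appTop ai) = 1 := by rw [hmul, map_one]
      rw [map_mul, cf_hom X B f e] at h1
      rw [Algebra.algebraMap_self, RingHom.id_apply] at h1 ⊢
      exact Units.eq_inv_of_mul_eq_one_left h1
    obtain ⟨p, q, e'⟩ := hh.comp z
    rw [Category.comp_id] at e'
    have e2 := congrArg (chartMor X B f ≫ ·) e'
    simp only [chartMor_uv H, chartMor_cell H, gaFn_gaPt, map_mul, map_sub, map_one] at e2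
    rw [ei] at e2
    exact ⟨_, _, e2⟩
  have hmid : ∀ (X : Over S) (x y : X ⟶ Red.Ga S) (z : X ⟶ Red.Gm S) (x' y' : X ⟶ Red.Ga S) (t : X ⟶ T),
      Red.gmFn z = 1 + X.hom.appTop a * Red.gaFn x * Red.gaFn y →
      (x ≫ pp) * (y ≫ pm) = (y' ≫ pm) * (t ≫ i) * (x' ≫ pp) → t = z ≫ h := by
    intro X x y z x' y' t hz he
    apply Over.OverMorphism.ext
    refine X.left.affineOpenCover.openCover.hom_ext _ _ fun j => ?_
    suffices hk : chartMor X (X.left.affineOpenCover.X j) (X.left.affineOpenCover.f j) ≫ t =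
        chartMor X (X.left.affineOpenCover.X j) (X.left.affineOpenCover.f j) ≫ z ≫ h from congrArg Over.Hom.left hk
    obtain ⟨r, hr, e⟩ := hloc (R := X.left.affineOpenCover.X j) (X.left.affineOpenCover.f j ≫ X.hom)
    have h1 := ((chart_rule H X _ _ hr e x y).2 x' y' t he).2.2
    rw [← hz] at h1
    exact h1.unique (hH X _ _ r e z)
  have hmulh : ∀ (X : Over S) (z₁ z₂ : X ⟶ Red.Gm S), (z₁ * z₂) ≫ h = (z₁ ≫ h) * (z₂ ≫ h) := by
    intro X z₁ z₂
    apply Over.OverMorphism.ext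
    refine X.left.affineOpenCover.openCover.hom_ext _ _ fun j => ?_
    suffices hk : chartMor X (X.left.affineOpenCover.X j) (X.left.affineOpenCover.f j) ≫ (z₁ * z₂) ≫ h =
        chartMor X (X.left.affineOpenCover.X j) (X.left.affineOpenCover.f j) ≫ ((z₁ ≫ h) * (z₂ ≫ h))
      from congrArg Over.Hom.left hk
    obtain ⟨r, hr, e⟩ := hloc (R := X.left.affineOpenCover.X j) (X.left.affineOpenCover.f j ≫ X.hom)
    have hu : ∀ z : X ⟶ Red.Gm S,
        IsUnit (cf X (X.left.affineOpenCover.X j) (X.left.affineOpenCover.f j) (Red.gmFn z)) := fun z =>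
      (GmPts.isUnit_gmFn z).map _
    have h12 := (hH X _ _ r e z₁).mul hr (hu z₁) (hu z₂) (hH X _ _ r e z₂)
    rw [← map_mul, ← GmPts.gmFn_mul] at h12
    rw [MonObj.comp_mul]
    exact (hH X _ _ r e (z₁ * z₂)).unique h12
  haveI : IsMonHom h := by
    refine ⟨?_, ?_⟩
    · have e := hmulh (𝟙_ (Over S)) 1 1
      rw [_root_.one_mul, right_eq_mul] at e
      rw [Hom.one_def, toUnit_unique (toUnit (𝟙_ (Over S))) (𝟙 _), Category.id_comp] at e
      exact e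
    · have e := hmulh _ (fst (Red.Gm S) (Red.Gm S)) (snd (Red.Gm S) (Red.Gm S))
      rw [show fst (Red.Gm S) (Red.Gm S) * snd (Red.Gm S) (Red.Gm S) = μ[Red.Gm S] by
        rw [Hom.mul_def, lift_fst_snd, Category.id_comp]] at e
      rw [e, Hom.mul_def]
      congr 1
  refine ⟨a, h, ⟨au, hau'⟩, inferInstance, ?_, fun X x y => ?_⟩
  · apply GmPts.gmFn_injective
    change Red.gmFn (h ≫ α) = Red.gmFn ((𝟙 (Red.Gm S)) ^ 2)
    rw [pow_two, GmPts.gmFn_mul, ← pow_two]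
    refine eq_of_cover (X := Red.Gm S) (Red.Gm S).left.affineOpenCover.openCover fun j => ?_
    obtain ⟨r, hr, e⟩ := hloc (R := (Red.Gm S).left.affineOpenCover.X j)
      ((Red.Gm S).left.affineOpenCover.f j ≫ (Red.Gm S).hom)
    have e1 := CellFun.chi_isH hr (hH (Red.Gm S) _ _ r e (𝟙 _))
    rw [Category.id_comp] at e1
    refine appTop_eq_of_cf (Red.Gm S) _ _ ?_
    refine Eq.trans ?_ (Eq.trans e1 (map_pow _ _ _).symm)
    change _ = (toFn _ _).symm (Red.gmFn ((chartMor (Red.Gm S) _ _ ≫ h) ≫ α))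
    rw [Category.assoc, GmPts.gmFn_comp]
    rfl
  · obtain ⟨hin, hco⟩ := hgood X X.hom (Category.comp_id _) x y
    refine ⟨hin, fun hu => ?_⟩
    obtain ⟨x', y', t, hx', hy', he⟩ := hco hu
    obtain ⟨zu, hzu⟩ := hu
    let z : X ⟶ Red.Gm S := GmPts.ptOfUnit zu
    have hz : Red.gmFn z = 1 + X.hom.appTop a * Red.gaFn x * Red.gaFn y := (GmPts.gmFn_ptOfUnit zu).trans hzu
    refine ⟨x', y', z, hz, by rw [hz]; exact hx', by rw [hz]; exact hy', ?_⟩
    rw [he, hmid X x y z x' y' t hz he, Category.assoc]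

end GrothLib.RankComm14
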