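import Groth.Agent.Lib.RankComm14.Torus

/-!
The commutation formula of a rank one system: existence and uniqueness of the slope and the cocharacter.
-/

universe u

open CategoryTheory MonoidalCategory CartesianMonoidalCategory MonObj GrpObj AlgebraicGeometry
open CategoryTheory.Limits

set_option backward.isDefEq.respectTransparency false

namespace GrothLib.RankComm14

open GrothLib.RedPts GrothLib.RankCell14

theorem isUnit_of_cover {X : Scheme.{u}} (𝒰 : X.OpenCover) {a : Γ(X, ⊤)} (h : ∀ j, IsUnit ((𝒰.f j).appTop a)) :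
    IsUnit a := by
  have htop : ∀ x : X, x ∈ X.basicOpen a := by
    intro x
    obtain ⟨j, y, rfl⟩ := 𝒰.exists_eq x
    have hy : y ∈ (𝒰.f j) ⁻¹ᵁ X.basicOpen a := by
      rw [Scheme.preimage_basicOpen_top, Scheme.basicOpen_of_isUnit (𝒰.X j) (h j)]
      trivial
    exact hy
  exact X.toRingedSpace.isUnit_of_isUnit_germ ⊤ a fun x _ => by
    have := htop x
    rwa [Scheme.mem_basicOpen X a x trivial] at this

variable {S : Scheme.{u}} {G T : Over S} [GrpObj G] [GrpObj T] {i : T ⟶ G} {α : T ⟶ Red.Gm S}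
  {pp pm : Red.Ga S ⟶ G}

/-- A point lies in the cell. -/
def InC (i : T ⟶ G) (pp pm : Red.Ga S ⟶ G) {Y : Over S} (g : Y ⟶ G) : Prop :=
  ∀ z, g.left.base z ∈ Set.range (cell i pp pm).left.base

/-- `a` is the constant of the commutation formula over `S'`. -/
def Good (i : T ⟶ G) (pp pm : Red.Ga S ⟶ G) {S' : Scheme.{u}} (g : S' ⟶ S) (a : Γ(S', ⊤)) : Prop :=
  ∀ (Y : Over S) (h : Y.left ⟶ S'), h ≫ g = Y.hom → ∀ x y : Y ⟶ Red.Ga S,
    (InC i pp pm ((x ≫ pp) * (y ≫ pm)) ↔ IsUnit (1 + h.appTop a * Red.gaFn x * Red.gaFn y)) ∧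
      (IsUnit (1 + h.appTop a * Red.gaFn x * Red.gaFn y) → ∃ (x' y' : Y ⟶ Red.Ga S) (t : Y ⟶ T),
        Red.gaFn x' * (1 + h.appTop a * Red.gaFn x * Red.gaFn y) = Red.gaFn x ∧
        Red.gaFn y' * (1 + h.appTop a * Red.gaFn x * Red.gaFn y) = Red.gaFn y ∧
        (x ≫ pp) * (y ≫ pm) = (y' ≫ pm) * (t ≫ i) * (x' ≫ pp))

theorem Good.comp {S' S'' : Scheme.{u}} {g : S' ⟶ S} {a : Γ(S', ⊤)} (ha : Good i pp pm g a) (f : S'' ⟶ S') :
    Good i pp pm (f ≫ g) (f.appTop a) := by
  intro Y h hh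
  have h1 := ha Y (h ≫ f) (by rw [Category.assoc, hh])
  simpa only [Scheme.Hom.comp_appTop, CommRingCat.comp_apply] using h1

theorem toFn_algebraMap {R : Type u} [CommRing R] (σ : Spec (CommRingCat.of R) ⟶ S) (A : Type u) [CommRing A]
    [Algebra R A] (r : R) : (Spec.map (CommRingCat.ofHom (algebraMap R A))).appTop ((Scheme.ΓSpecIso (CommRingCat.of R)).inv r) =
      toFn σ A (algebraMap R A r) :=
  specMap_appTop (CommRingCat.ofHom (algebraMap R A)) r

/-- An affine chart of a scheme above an affine scheme, as an algebra. -/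
theorem chart {R : Type u} [CommRing R] (σ : Spec (CommRingCat.of R) ⟶ S) {Y : Over S}
    (h : Y.left ⟶ Spec (CommRingCat.of R)) (hh : h ≫ σ = Y.hom) {B : CommRingCat.{u}} (f : Spec B ⟶ Y.left) :
    ∃ (_ : Algebra R B) (k : ob σ B ⟶ Y), k.left = f ∧
      ∀ r, k.left.appTop (h.appTop ((Scheme.ΓSpecIso (CommRingCat.of R)).inv r)) = toFn σ B (algebraMap R B r) := by
  let ψ : CommRingCat.of R ⟶ B := Spec.preimage (f ≫ h)
  letI : Algebra R B := ψ.hom.toAlgebra
  have hψ : Spec.map (CommRingCat.ofHom (algebraMap R B)) = f ≫ h := Spec.map_preimage _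
  refine ⟨inferInstance, Over.homMk f (by
    change f ≫ Y.hom = Spec.map (CommRingCat.ofHom (algebraMap R B)) ≫ σ
    rw [hψ, Category.assoc, hh]), rfl, fun r => ?_⟩
  exact ((congrArg (fun g => g.appTop ((Scheme.ΓSpecIso (CommRingCat.of R)).inv r)) hψ).symm).trans
    (toFn_algebraMap σ B r)

theorem pt_eq {R : Type u} [CommRing R] (σ : Spec (CommRingCat.of R) ⟶ S) {B : Type u} [CommRing B] [Algebra R B]
    (x : ob σ B ⟶ Red.Ga S) : gaPt (toFn σ B ((toFn σ B).symm (Red.gaFn x))) = x := by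
  rw [RingEquiv.apply_symm_apply, gaPt_gaFn]

variable (H : Sys i α pp pm)

include H in
theorem inC_iff {R : Type u} [CommRing R] (σ : Spec (CommRingCat.of R) ⟶ S) {B : Type u} [CommRing B] [Algebra R B]
    (g : ob σ B ⟶ G) : InC i pp pm g ↔ (H.fn σ).In g := by
  haveI := H.hΩ
  constructor
  · intro h
    obtain ⟨y, t, x, h⟩ := exists_coords i pp pm g h
    refine ⟨(toFn σ B).symm (Red.gaFn y), t, (toFn σ B).symm (Red.gaFn x), ?_⟩
    exact h.trans (congrArg₂ (fun a b => (a ≫ pm) * (t ≫ i) * (b ≫ pp)) (pt_eq σ y).symm (pt_eq σ x).symm)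
  · rintro ⟨a, t, b, h⟩
    exact mem_range_cell i pp pm h

include H in
/-- The constant of the formula over an affine scheme is the slope. -/
theorem good_of_slope {R : Type u} [CommRing R] (σ : Spec (CommRingCat.of R) ⟶ S) {a : Rˣ}
    (ha : (H.fn σ).IsSlope a) : Good i pp pm σ ((Scheme.ΓSpecIso (CommRingCat.of R)).inv (a : R)) := by
  haveI := H.hΩ
  haveI := H.monI
  intro Y h hh x y
  obtain ⟨z, hz⟩ : ∃ z, z = 1 + h.appTop ((Scheme.ΓSpecIso (CommRingCat.of R)).inv (a : R)) * Red.gaFn x * Red.gaFn y :=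
    ⟨_, rfl⟩
  rw [← hz]
  let 𝒰 := Y.left.affineOpenCover
  have hchart : ∀ j, ∃ (_ : Algebra R (𝒰.X j)) (k : ob σ (𝒰.X j) ⟶ Y) (x₁ y₁ : 𝒰.X j), k.left = 𝒰.f j ∧
      k ≫ ((x ≫ pp) * (y ≫ pm)) = (H.fn σ).u x₁ * (H.fn σ).v y₁ ∧
      k.left.appTop z = toFn σ (𝒰.X j) (1 + algebraMap R (𝒰.X j) (a : R) * x₁ * y₁) ∧
      Red.gaFn (k ≫ x) = toFn σ (𝒰.X j) x₁ ∧ Red.gaFn (k ≫ y) = toFn σ (𝒰.X j) y₁ := by
    intro j
    obtain ⟨_, k, hk, hr⟩ := chart σ h hh (𝒰.f j)
    refine ⟨inferInstance, k, (toFn σ _).symm (Red.gaFn (k ≫ x)), (toFn σ _).symm (Red.gaFn (k ≫ y)), hk, ?_, ?_,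
      (RingEquiv.apply_symm_apply _ _).symm, (RingEquiv.apply_symm_apply _ _).symm⟩
    · change _ = (gaPt _ ≫ pp) * (gaPt _ ≫ pm)
      rw [pt_eq, pt_eq, MonObj.comp_mul, Category.assoc, Category.assoc]
    · rw [hz, map_add, map_mul, map_mul, map_one, hr, map_add, map_mul, map_mul, map_one,
        RingEquiv.apply_symm_apply, RingEquiv.apply_symm_apply, gaFn_comp, gaFn_comp]
  have hin : InC i pp pm ((x ≫ pp) * (y ≫ pm)) ↔ IsUnit z := by
    constructor
    · intro hg
      refine isUnit_of_cover 𝒰.openCover fun j => ?_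
      obtain ⟨_, k, x₁, y₁, hk, hkg, hkz, -, -⟩ := hchart j
      have h1 : IsUnit (1 + algebraMap R (𝒰.X j) (a : R) * x₁ * y₁) := by
        rw [← (H.fn σ).in_iff_isUnit ha a.isUnit, ← hkg, ← inC_iff H σ]
        intro w
        rw [Over.comp_left, Scheme.Hom.comp_apply]
        exact hg _
      have h2 := h1.map (toFn σ (𝒰.X j))
      rw [← hkz, hk] at h2
      exact h2
    · intro hu w
      obtain ⟨j, w', rfl⟩ := 𝒰.openCover.exists_eq w
      obtain ⟨_, k, x₁, y₁, hk, hkg, hkz, -, -⟩ := hchart j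
      have h1 : IsUnit (1 + algebraMap R (𝒰.X j) (a : R) * x₁ * y₁) := by
        have := (hu.map k.left.appTop.hom)
        rw [hkz] at this
        exact (MulEquiv.isUnit_map (toFn σ (𝒰.X j))).mp this
      have h2 := (inC_iff H σ _).mpr (((H.fn σ).in_iff_isUnit ha a.isUnit x₁ y₁).mpr h1) w'
      rw [← hkg, Over.comp_left, Scheme.Hom.comp_apply, hk] at h2
      exact h2
  refine ⟨hin, fun hu => ?_⟩
  obtain ⟨y', t, x', he⟩ := exists_coords i pp pm _ (hin.mpr hu)
  have key : ∀ j, (𝒰.openCover.f j).appTop (Red.gaFn x' * z) = (𝒰.openCover.f j).appTop (Red.gaFn x) ∧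
      (𝒰.openCover.f j).appTop (Red.gaFn y' * z) = (𝒰.openCover.f j).appTop (Red.gaFn y) := by
    intro j
    obtain ⟨_, k, x₁, y₁, hk, hkg, hkz, hx₁, hy₁⟩ := hchart j
    have h1 : IsUnit (1 + algebraMap R (𝒰.X j) (a : R) * x₁ * y₁) := by
      have := (hu.map k.left.appTop.hom)
      rw [hkz] at this
      exact (MulEquiv.isUnit_map (toFn σ (𝒰.X j))).mp this
    obtain ⟨a₁, b₁, t₁, ha₁, hb₁, -, he₁⟩ := CellFun.rule ha h1
    have e2 : ((k ≫ y') ≫ pm) * ((k ≫ t) ≫ i) * ((k ≫ x') ≫ pp) =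
        (gaPt (toFn σ _ a₁) ≫ pm) * (t₁ ≫ i) * (gaPt (toFn σ _ b₁) ≫ pp) := by
      refine Eq.trans ?_ (hkg.trans he₁)
      rw [he, MonObj.comp_mul, MonObj.comp_mul, Category.assoc, Category.assoc, Category.assoc]
    obtain ⟨e3, -, e4⟩ := cell_inj i pp pm e2
    have f3 : k.left.appTop (Red.gaFn y') = toFn σ _ a₁ := by rw [← gaFn_comp, e3, gaFn_gaPt]
    have f4 : k.left.appTop (Red.gaFn x') = toFn σ _ b₁ := by rw [← gaFn_comp, e4, gaFn_gaPt]
    have k1 : k.left.appTop (Red.gaFn x' * z) = k.left.appTop (Red.gaFn x) := by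
      rw [map_mul, hkz, f4, ← map_mul, hb₁, ← gaFn_comp, hx₁]
    have k2 : k.left.appTop (Red.gaFn y' * z) = k.left.appTop (Red.gaFn y) := by
      rw [map_mul, hkz, f3, ← map_mul, ha₁, ← gaFn_comp, hy₁]
    rw [hk] at k1 k2
    exact ⟨k1, k2⟩
  exact ⟨x', y', t, eq_of_cover 𝒰.openCover fun j => (key j).1, eq_of_cover 𝒰.openCover fun j => (key j).2, he⟩

include H in
/-- The constant of the formula is unique over an affine scheme. -/
theorem good_unique {R : Type u} [CommRing R] (σ : Spec (CommRingCat.of R) ⟶ S) {a b : R}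
    (ha : Good i pp pm σ ((Scheme.ΓSpecIso (CommRingCat.of R)).inv a))
    (hb : Good i pp pm σ ((Scheme.ΓSpecIso (CommRingCat.of R)).inv b)) : a = b := by
  haveI := H.hΩ
  let f : Polynomial R := (1 + Polynomial.C a * Polynomial.X) * (1 + Polynomial.C b * Polynomial.X)
  let L := Localization.Away f
  let x : ob σ L ⟶ Red.Ga S := gaPt (toFn σ L (algebraMap (Polynomial R) L Polynomial.X))
  let y : ob σ L ⟶ Red.Ga S := gaPt 1
  let h : (ob σ L).left ⟶ Spec (CommRingCat.of R) := Spec.map (CommRingCat.ofHom (algebraMap R L))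
  have hf : IsUnit (algebraMap (Polynomial R) L f) := IsLocalization.Away.algebraMap_isUnit f
  simp only [f, map_mul, map_add, map_one, IsUnit.mul_iff] at hf
  have hz : ∀ c : R, 1 + h.appTop ((Scheme.ΓSpecIso (CommRingCat.of R)).inv c) * Red.gaFn x * Red.gaFn y =
      toFn σ L (algebraMap (Polynomial R) L (1 + Polynomial.C c * Polynomial.X)) := by
    intro c
    simp only [x, y, h]
    refine (congrArg (fun w => 1 + w * Red.gaFn (gaPt (toFn σ L (algebraMap (Polynomial R) L Polynomial.X)) : ob σ L ⟶ Red.Ga S) *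
      Red.gaFn (gaPt 1 : ob σ L ⟶ Red.Ga S)) (toFn_algebraMap σ L c)).trans ?_
    rw [gaFn_gaPt, gaFn_gaPt, _root_.mul_one, map_add, map_mul, map_one, map_add, map_mul,
      map_one, IsScalarTower.algebraMap_apply R (Polynomial R) L c, Polynomial.algebraMap_eq]
  have hua : IsUnit (1 + h.appTop ((Scheme.ΓSpecIso (CommRingCat.of R)).inv a) * Red.gaFn x * Red.gaFn y) := by
    rw [hz, map_add, map_mul, map_one]; exact hf.1.map _
  have hub : IsUnit (1 + h.appTop ((Scheme.ΓSpecIso (CommRingCat.of R)).inv b) * Red.gaFn x * Red.gaFn y) := by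
    rw [hz, map_add, map_mul, map_one]; exact hf.2.map _
  obtain ⟨x₁, y₁, t₁, -, hy₁, e₁⟩ := (ha (ob σ L) h rfl x y).2 hua
  obtain ⟨x₂, y₂, t₂, -, hy₂, e₂⟩ := (hb (ob σ L) h rfl x y).2 hub
  obtain ⟨e, -, -⟩ := cell_inj i pp pm (e₁.symm.trans e₂)
  rw [e, hz] at hy₁
  rw [hz] at hy₂
  have hyu : IsUnit (Red.gaFn y₂) := by
    refine IsUnit.of_mul_eq_one _ (hy₂.trans ?_)
    exact gaFn_gaPt 1
  have e5 := (toFn σ L).injective (hyu.mul_left_cancel (hy₁.trans hy₂.symm))
  have hinj : Function.Injective (algebraMap (Polynomial R) L) := by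
    refine IsLocalization.injective L (M := Submonoid.powers f) (Submonoid.powers_le.mpr ?_)
    exact mul_mem (mem_nonZeroDivisors_of_isUnit _ (by simp)) (mem_nonZeroDivisors_of_isUnit _ (by simp))
  have e6 := congrArg (fun g : Polynomial R => g.coeff 1) (hinj e5)
  simpa using e6

variable (hnc : ∀ s : S, ∃ (X : Over (Spec (CommRingCat.of (AlgebraicClosure (S.residueField s)))))
  (x y : X ⟶ Red.bc (Red.geomPt s) (Red.Ga S)),
  (x ≫ (Over.pullback (Red.geomPt s)).map pp) * (y ≫ (Over.pullback (Red.geomPt s)).map pm) ≠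
    (y ≫ (Over.pullback (Red.geomPt s)).map pm) * (x ≫ (Over.pullback (Red.geomPt s)).map pp))

include H hnc in
theorem isUnit_slope {R : Type u} [CommRing R] (σ : Spec (CommRingCat.of R) ⟶ S) {a : R}
    (ha : (H.fn σ).IsSlope a) : IsUnit a := by
  haveI := H.hΩ
  by_contra hn
  obtain ⟨m, hm, ham⟩ := exists_max_ideal_of_mem_nonunits hn
  letI : Field (R ⧸ m) := Ideal.Quotient.field m
  let L := AlgebraicClosure (R ⧸ m)
  have haL : algebraMap R L a = 0 := by
    rw [IsScalarTower.algebraMap_apply R (R ⧸ m) L, Ideal.Quotient.algebraMap_eq,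
      Ideal.Quotient.eq_zero_iff_mem.mpr ham, map_zero]
  let g : Spec (CommRingCat.of L) ⟶ S := Spec.map (CommRingCat.ofHom (algebraMap R L)) ≫ σ
  obtain ⟨s, κ, hg⟩ : ∃ (s : S) (κ : S.residueField s ⟶ CommRingCat.of L),
      Spec.map κ ≫ S.fromSpecResidueField s = g :=
    ⟨_, _, (Scheme.SpecToEquivOfField L S).symm_apply_apply g⟩
  let K := AlgebraicClosure (S.residueField s)
  letI : Algebra (S.residueField s) L := κ.hom.toAlgebra
  let j : K →ₐ[S.residueField s] L := IsAlgClosed.lift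
  have hj : Spec.map (CommRingCat.ofHom j.toRingHom) ≫ Red.geomPt s = g := by
    rw [← hg, Red.geomPt, ← Category.assoc, ← Spec.map_comp, ← CommRingCat.ofHom_comp]
    congr 3
    ext r
    exact j.commutes r
  obtain ⟨a₀, ha₀⟩ := (H.fn (Red.geomPt s)).exists_isSlope
  have ha₀0 : a₀ ≠ 0 := fun h => H.slope_ne_zero s (hnc s) (h ▸ ha₀)
  have hgood := (good_of_slope H (Red.geomPt s) (a := Units.mk0 a₀ ha₀0) ha₀).comp
    (Spec.map (CommRingCat.ofHom j.toRingHom))
  rw [hj, GrothLib.RankCell14.specMap_appTop] at hgood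
  let D := DualNumber L
  obtain ⟨t, b, e⟩ := CellFun.IsSlope.coords ha (DualNumber.eps : D) DualNumber.eps_mul_eps
  rw [IsScalarTower.algebraMap_apply R L D, haL, map_zero, zero_mul, sub_zero] at e
  let x : ob σ D ⟶ Red.Ga S := gaPt (toFn σ D DualNumber.eps)
  let y : ob σ D ⟶ Red.Ga S := gaPt (toFn σ D 1)
  let h : (ob σ D).left ⟶ Spec (CommRingCat.of L) := Spec.map (CommRingCat.ofHom (algebraMap L D))
  have hh : h ≫ g = (ob σ D).hom := by
    change Spec.map _ ≫ Spec.map _ ≫ σ = Spec.map _ ≫ σ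
    rw [← Category.assoc, ← Spec.map_comp, ← CommRingCat.ofHom_comp, ← IsScalarTower.algebraMap_eq]
  have hz : 1 + h.appTop ((Scheme.ΓSpecIso (CommRingCat.of L)).inv (j a₀)) * Red.gaFn x * Red.gaFn y =
      toFn σ D (1 + algebraMap L D (j a₀) * DualNumber.eps) := by
    simp only [x, y, h]
    rw [gaFn_gaPt, gaFn_gaPt, map_one, _root_.mul_one, map_add, map_mul, map_one]
    congr 2
    exact specMap_appTop (CommRingCat.ofHom (algebraMap L D)) _
  have hu : IsUnit (1 + algebraMap L D (j a₀) * (DualNumber.eps : D)) :=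
    IsUnit.of_mul_eq_one (1 - algebraMap L D (j a₀) * DualNumber.eps) (by
      linear_combination (-(algebraMap L D (j a₀)) ^ 2) * (DualNumber.eps_mul_eps : (DualNumber.eps : D) * _ = 0))
  obtain ⟨x', y', t', -, hy', e'⟩ := (hgood _ h hh x y).2 (by
    change IsUnit (1 + h.appTop ((Scheme.ΓSpecIso (CommRingCat.of L)).inv (j a₀)) * Red.gaFn x * Red.gaFn y)
    rw [hz]; exact hu.map _)
  change Red.gaFn y' * (1 + h.appTop ((Scheme.ΓSpecIso (CommRingCat.of L)).inv (j a₀)) * Red.gaFn x * Red.gaFn y) = _ at hy'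
  obtain ⟨e3, -, -⟩ := cell_inj i pp pm (e'.symm.trans e)
  have hy'' := ((congrArg (Red.gaFn y' * ·) hz).symm.trans hy')
  rw [e3, gaFn_gaPt, ← map_mul, _root_.one_mul] at hy''
  have e4 := congrArg TrivSqZeroExt.snd ((toFn σ D).injective hy'')
  simp [D, TrivSqZeroExt.algebraMap_eq_inl] at e4
  exact ha₀0 e4

include H hnc in
theorem exists_good_affine {R : Type u} [CommRing R] (σ : Spec (CommRingCat.of R) ⟶ S) :
    ∃ a : Rˣ, (H.fn σ).IsSlope (a : R) ∧ Good i pp pm σ ((Scheme.ΓSpecIso (CommRingCat.of R)).inv (a : R)) := by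
  obtain ⟨a, ha⟩ := (H.fn σ).exists_isSlope
  obtain ⟨u, rfl⟩ := isUnit_slope H hnc σ ha
  exact ⟨u, ha, good_of_slope H σ ha⟩

include H in
theorem good_unique' {W : Scheme.{u}} (g : W ⟶ S) {a b : Γ(W, ⊤)} (ha : Good i pp pm g a) (hb : Good i pp pm g b) :
    a = b := by
  refine GrothLib.RankCell14.eq_of_cover (X := Over.mk g) W.affineOpenCover.openCover fun j => ?_
  let f : Spec (W.affineOpenCover.X j) ⟶ W := W.affineOpenCover.f j
  have hid : ∀ c, (Scheme.ΓSpecIso (W.affineOpenCover.X j)).inv ((Scheme.ΓSpecIso (W.affineOpenCover.X j)).hom c) = c :=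
    fun c => congrArg (fun g => (ConcreteCategory.hom g) c) (Scheme.ΓSpecIso (W.affineOpenCover.X j)).hom_inv_id
  have := good_unique H (f ≫ g) (a := (Scheme.ΓSpecIso (W.affineOpenCover.X j)).hom (f.appTop a))
    (b := (Scheme.ΓSpecIso (W.affineOpenCover.X j)).hom (f.appTop b)) ((congrArg (Good i pp pm (f ≫ g)) (hid _)).mpr (ha.comp f))
    ((congrArg (Good i pp pm (f ≫ g)) (hid _)).mpr (hb.comp f))
  change f.appTop a = f.appTop b
  rw [← hid (f.appTop a), this, hid]

include H hnc in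
/-- The constant of the commutation formula over the whole base. -/
theorem exists_good : ∃ a : Γ(S, ⊤), IsUnit a ∧ ∀ {R : Type u} [CommRing R] (σ : Spec (CommRingCat.of R) ⟶ S),
    ∃ r : Rˣ, (H.fn σ).IsSlope (r : R) ∧ σ.appTop a = (Scheme.ΓSpecIso (CommRingCat.of R)).inv (r : R) := by
  let Idx := S.affineOpens
  have hloc : ∀ U : Idx, ∃ a : Γ(S, U.1), IsUnit a ∧ Good i pp pm U.1.ι (U.1.topIso.inv a) := by
    intro U
    obtain ⟨r, -, hr⟩ := exists_good_affine H hnc (R := Γ(S, U.1)) (U.2.isoSpec.inv ≫ U.1.ι)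
    have h := hr.comp U.2.isoSpec.hom
    rw [← Category.assoc, Iso.hom_inv_id, Category.id_comp] at h
    refine ⟨U.1.topIso.hom (U.2.isoSpec.hom.appTop ((Scheme.ΓSpecIso _).inv (r : Γ(S, U.1)))), ?_, ?_⟩
    · exact ((r.isUnit.map (Scheme.ΓSpecIso Γ(S, U.1)).inv.hom).map U.2.isoSpec.hom.appTop.hom).map U.1.topIso.hom.hom
    · rw [show ∀ c, U.1.topIso.inv (U.1.topIso.hom c) = c from fun c =>
        congrArg (fun g => (ConcreteCategory.hom g) c) U.1.topIso.hom_inv_id]
      exact h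
  choose a hau hag using hloc
  have hres : ∀ (W V : S.Opens) (e : W ≤ V) (c : Γ(S, V)),
      (S.homOfLE e).appTop (V.topIso.inv c) = W.topIso.inv (S.presheaf.map (homOfLE e).op c) := by
    intro W V e c
    simp only [Scheme.homOfLE_appTop, Scheme.Opens.topIso_inv, ← ConcreteCategory.comp_apply, ← Functor.map_comp]
    rfl
  have hcompat : TopCat.Presheaf.IsCompatible S.sheaf.1 (fun U : Idx => U.1) a := by
    intro U V
    change S.presheaf.map (homOfLE inf_le_left).op (a U) = S.presheaf.map (homOfLE inf_le_right).op (a V)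
    apply (U.1 ⊓ V.1).topIso.commRingCatIsoToRingEquiv.symm.injective
    refine good_unique' H (U.1 ⊓ V.1).ι ?_ ?_
    · have h := (hag U).comp (S.homOfLE (inf_le_left : U.1 ⊓ V.1 ≤ U.1))
      rw [Scheme.homOfLE_ι, hres] at h
      exact h
    · have h := (hag V).comp (S.homOfLE (inf_le_right : U.1 ⊓ V.1 ≤ V.1))
      rw [Scheme.homOfLE_ι, hres] at h
      exact h
  obtain ⟨A, hA, -⟩ := S.sheaf.existsUnique_gluing' (fun U : Idx => U.1) ⊤ (fun U => homOfLE le_top)
    (by rw [(iSup_affineOpens_eq_top S)]) a hcompat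
  have hA' : ∀ U : Idx, U.1.ι.appTop A = U.1.topIso.inv (a U) := by
    intro U
    rw [← hA U, Scheme.Opens.ι_appTop, Scheme.Opens.topIso_inv]
    exact (ConcreteCategory.congr_hom (congrArg S.presheaf.map (Subsingleton.elim _ _)) A).trans
      (ConcreteCategory.congr_hom (S.presheaf.map_comp _ _) A)
  have hAu : IsUnit A := by
    refine isUnit_of_cover (Scheme.openCoverOfIsOpenCover S (fun U : Idx => U.1) (by
      exact iSup_affineOpens_eq_top S)) fun U => ?_
    change IsUnit (U.1.ι.appTop A)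
    rw [hA']
    exact (hau U).map U.1.topIso.inv.hom
  refine ⟨A, hAu, fun {R} _ σ => ?_⟩
  obtain ⟨r, hr1, hr2⟩ := exists_good_affine H hnc σ
  refine ⟨r, hr1, ?_⟩
  refine GrothLib.RankCell14.eq_of_cover (X := Over.mk σ)
    ((Scheme.openCoverOfIsOpenCover S (fun U : Idx => U.1) (iSup_affineOpens_eq_top S)).pullback₁ σ) fun U => ?_
  change (pullback.fst σ U.1.ι).appTop (σ.appTop A) = (pullback.fst σ U.1.ι).appTop _
  rw [← CommRingCat.comp_apply, ← Scheme.Hom.comp_appTop, pullback.condition, Scheme.Hom.comp_appTop,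
    CommRingCat.comp_apply, hA']
  refine good_unique' H (pullback.snd σ U.1.ι ≫ U.1.ι) ((hag U).comp _) ?_
  have h := hr2.comp (pullback.fst σ U.1.ι)
  rwa [pullback.condition] at h

end GrothLib.RankComm14
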