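import Groth.Agent.Lib.RankComm14.Global
import Groth.Agent.Lib.RankCell14.Iso
import Groth.Agent.Lib.RankCell14.Centralizer
import Groth.Agent.S8446

/-!
The coroot of a reductive group of semisimple rank one, after rescaling the positive root group.
-/

universe u

open CategoryTheory MonoidalCategory CartesianMonoidalCategory MonObj GrpObj AlgebraicGeometry
open CategoryTheory.Limits

set_option backward.isDefEq.respectTransparency false

namespace GrothLib.RankComm14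

open GrothLib.RedPts GrothLib.RankCell14 GrothLib.RankOne

variable {S : Scheme.{u}} {G T : Over S} [GrpObj G] [GrpObj T] {i : T ⟶ G} {α : T ⟶ Red.Gm S}
  {pp pm : Red.Ga S ⟶ G}

/-- A rank one system of a reductive group satisfies the commutation rule after rescaling. -/
theorem exists_hyp [IsMonHom i] [Mono i] (hG : Red.IsReductive G) (hTm : Red.IsMaximalTorus i)
    [IsMonHom α] (hα : ∀ s : S, (Over.pullback (Red.geomPt s)).map α ≠ 1)
    [IsMonHom pp] [Mono pp] [IsMonHom pm] [Mono pm]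
    (hpp : ∀ (X : Over S) (t : X ⟶ T) (x : X ⟶ Red.Ga S), ∃ x' : X ⟶ Red.Ga S,
      x' ≫ pp = (t ≫ i) * (x ≫ pp) * (t ≫ i)⁻¹ ∧ Red.gaFn x' = Red.gmFn (t ≫ α) * Red.gaFn x)
    (hpm : ∀ (X : Over S) (t : X ⟶ T) (y : X ⟶ Red.Ga S), ∃ y' : X ⟶ Red.Ga S,
      y' ≫ pm = (t ≫ i) * (y ≫ pm) * (t ≫ i)⁻¹ ∧ Red.gaFn y' * Red.gmFn (t ≫ α) = Red.gaFn y)
    (hΩ : IsOpenImmersion (cell i pp pm).left) :
    ∃ (av : Red.Gm S ⟶ T) (c : 𝟙_ (Over S) ⟶ Red.Gm S), Hyp i α ((scaleIso c).hom ≫ pp) pm av ∧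
      IsOpenImmersion (cell i ((scaleIso c).hom ≫ pp) pm).left := by
  have H : Sys i α pp pm := ⟨inferInstance, inferInstance, inferInstance, inferInstance, hTm.2.2.1, hα, hpp, hpm, hΩ⟩
  obtain ⟨a, h, hau, hmon, h2, hf⟩ := exists_formula H
    (fun s => Groth.Agent.S8446.result S G T i hG hTm α hα pp pm hpp hpm hΩ s)
  obtain ⟨au, hau'⟩ := hau
  let c : 𝟙_ (Over S) ⟶ Red.Gm S := GmPts.ptOfUnit (T := 𝟙_ (Over S)) au⁻¹
  have hc : ∀ X : Over S, X.hom.appTop a * (cst c X : Γ(X.left, ⊤)) = 1 := by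
    intro X
    rw [cst_val, GmPts.gmFn_comp]
    change X.hom.appTop a * X.hom.appTop (Red.gmFn c) = 1
    rw [← map_mul, ← hau', show Red.gmFn c = ((au⁻¹ : (Γ(S, ⊤))ˣ) : Γ(S, ⊤)) from
      GmPts.gmFn_ptOfUnit (T := 𝟙_ (Over S)) au⁻¹, Units.mul_inv, map_one]
  haveI : IsMonHom (scaleIso c).hom := by
    refine ⟨?_, ?_⟩
    · apply gaFn_injective
      rw [gaFn_scale]
      change _ * Red.gaFn η[Red.Ga S] = Red.gaFn η[Red.Ga S]
      have h0 : Red.gaFn η[Red.Ga S] = 0 := by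
        have := gaFn_one (T := 𝟙_ (Over S)) (S := S)
        rwa [Hom.one_def, toUnit_unique (toUnit (𝟙_ (Over S))) (𝟙 _), Category.id_comp] at this
      rw [h0, mul_zero]
    · have e : μ[Red.Ga S] = fst (Red.Ga S) (Red.Ga S) * snd (Red.Ga S) (Red.Ga S) := by
        rw [Hom.mul_def, lift_fst_snd, Category.id_comp]
      have e2 : ((scaleIso c).hom ⊗ₘ (scaleIso c).hom) ≫ μ[Red.Ga S] =
          (fst _ _ ≫ (scaleIso c).hom) * (snd _ _ ≫ (scaleIso c).hom) := by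
        rw [Hom.mul_def]; congr 1
      apply gaFn_injective
      rw [e2, e, gaFn_scale, gaFn_mul, gaFn_mul, gaFn_scale, gaFn_scale, mul_add]
  refine ⟨h, c, ⟨inferInstance, inferInstance, inferInstance, inferInstance, hmon, ?_, hpm, h2, ?_⟩, ?_⟩
  · intro X t x
    obtain ⟨x', h1, h2⟩ := hpp X t (x ≫ (scaleIso c).hom)
    refine ⟨x' ≫ (scaleIso c).inv, ?_, ?_⟩
    · rw [Category.assoc, Iso.inv_hom_id_assoc, h1, Category.assoc]
    · rw [gaFn_scale_inv, h2, gaFn_scale, mul_left_comm, Units.inv_mul_cancel_left]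
  · intro X x y hu
    have hz : 1 + X.hom.appTop a * Red.gaFn (x ≫ (scaleIso c).hom) * Red.gaFn y = 1 + Red.gaFn x * Red.gaFn y := by
      rw [gaFn_scale, ← _root_.mul_assoc, hc, _root_.one_mul]
    obtain ⟨x', y', z, hz1, hx, hy, e⟩ := (hf X (x ≫ (scaleIso c).hom) y).2 (by rw [hz]; exact hu)
    refine ⟨x' ≫ (scaleIso c).inv, y', z, hz1.trans hz, ?_, hy, ?_⟩
    · rw [gaFn_scale_inv, _root_.mul_assoc, hx, gaFn_scale, Units.inv_mul_cancel_left]
    · rw [Category.assoc (x' : X ⟶ Red.Ga S), Iso.inv_hom_id_assoc, ← e, Category.assoc]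
  · have e : cell i ((scaleIso c).hom ≫ pp) pm = ((𝟙 _ ⊗ₘ 𝟙 T) ⊗ₘ (scaleIso c).hom) ≫ cell i pp pm := by
      simp only [cell, tensorHom_comp_tensorHom_assoc, Category.id_comp, id_tensorHom_id]
    rw [e]
    haveI : IsIso ((𝟙 (Red.Ga S) ⊗ₘ 𝟙 T) ⊗ₘ (scaleIso c).hom).left :=
      inferInstanceAs (IsIso ((Over.forget S).map ((𝟙 (Red.Ga S) ⊗ₘ 𝟙 T) ⊗ₘ (scaleIso c).hom)))
    rw [Over.comp_left]
    infer_instance

variable {av : Red.Gm S ⟶ T}

theorem w_conj_v (H : Hyp i α pp pm av) {Y : Over S} (c : Γ(Y.left, ⊤)) :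
    (H.datum Y).w 1 * (H.datum Y).v c * ((H.datum Y).w 1)⁻¹ = (H.datum Y).u (-c) := by
  have h := H.w_conj_u (Y := Y) 1 (-c)
  rw [inv_one, Units.val_one, _root_.one_mul, _root_.one_mul, neg_neg] at h
  rw [← h]
  have e : (H.datum Y).C (-1) * (H.datum Y).u (-c) = (H.datum Y).u (-c) * (H.datum Y).C (-1) := by
    rw [Datum.C_u]; congr 2; simp
  calc _ = ((H.datum Y).w 1 * (H.datum Y).w 1) * (H.datum Y).u (-c) *
        ((H.datum Y).w 1 * (H.datum Y).w 1)⁻¹ := by group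
    _ = _ := by rw [Datum.w_sq, e, mul_inv_cancel_right]

end GrothLib.RankComm14
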