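import Groth.Agent.Lib.RankComm14.Slope
import Mathlib.RingTheory.PowerSeries.Basic
import Mathlib.RingTheory.PowerSeries.Inverse

/-!
The commutation rule `u x * v y = v (y/z) * h z * u (x/z)`, `z = 1 + a x y`, from the slope `a`.
-/

universe u

open Polynomial

namespace GrothLib.RankComm14

variable {R : Type u} [CommRing R]

/-- A localization of a polynomial ring at a polynomial non-zero on every fibre is faithfully flat. -/
theorem faithfullyFlat_away {A : Type u} [CommRing A] [Algebra R A] (f : A[X])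
    (hf : ∀ p : Ideal A, p.IsPrime → f.map (Ideal.Quotient.mk p) ≠ 0) :
    (IsScalarTower.toAlgHom R A (Localization.Away f)).toRingHom.FaithfullyFlat := by
  haveI : Module.Flat A[X] (Localization.Away f) := IsLocalization.flat _ (Submonoid.powers f)
  haveI : Module.Flat A (Localization.Away f) := Module.Flat.trans A A[X] _
  have h : (algebraMap A (Localization.Away f)).FaithfullyFlat := by
    refine RingHom.FaithfullyFlat.iff_flat_and_comap_surjective.mpr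
      ⟨RingHom.flat_algebraMap_iff.mpr inferInstance, fun p => ?_⟩
    haveI := p.isPrime
    let q : Ideal A[X] := p.asIdeal.map Polynomial.C
    haveI hq : q.IsPrime := Ideal.isPrime_map_C_of_isPrime
    have hfq : f ∉ q := by
      intro hmem
      apply hf p.asIdeal p.isPrime
      ext n
      rw [Polynomial.coeff_map, Polynomial.coeff_zero, Ideal.Quotient.eq_zero_iff_mem]
      exact Ideal.mem_map_C_iff.mp hmem n
    have hdisj : Disjoint (Submonoid.powers f : Set A[X]) (q : Set A[X]) :=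
      Set.disjoint_left.mpr fun g ⟨n, hn⟩ hg => hfq (hq.mem_of_pow_mem n (by rw [← hn] at hg; exact hg))
    refine ⟨⟨q.map (algebraMap A[X] (Localization.Away f)),
      IsLocalization.isPrime_of_isPrime_disjoint _ _ q hq hdisj⟩, PrimeSpectrum.ext ?_⟩
    change Ideal.comap (algebraMap A (Localization.Away f)) _ = p.asIdeal
    rw [IsScalarTower.algebraMap_eq A A[X] (Localization.Away f), ← Ideal.comap_comap]
    have e := IsLocalization.comap_map_of_isPrime_disjoint (Submonoid.powers f) (Localization.Away f) hq hdisj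
    dsimp only
    rw [Ideal.under_def] at e
    rw [e]
    ext x
    change Polynomial.C x ∈ q ↔ x ∈ p.asIdeal
    rw [Ideal.mem_map_C_iff]
    exact ⟨fun h => by simpa using h 0, fun h n => by
      rw [Polynomial.coeff_C]; split_ifs
      · exact h
      · exact Ideal.zero_mem _⟩
  exact h

/-- A polynomial with a unit constant coefficient is not a zero divisor. -/
theorem mem_nonZeroDivisors_of_isUnit {A : Type u} [CommRing A] (f : A[X]) (h : IsUnit (f.coeff 0)) :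
    f ∈ nonZeroDivisors A[X] := by
  refine mem_nonZeroDivisors_iff_right.mpr fun q hq => Polynomial.coe_injective A ?_
  have h1 : IsUnit (f : PowerSeries A) := by
    rw [PowerSeries.isUnit_iff_constantCoeff, ← PowerSeries.coeff_zero_eq_constantCoeff_apply,
      Polynomial.coeff_coe]
    exact h
  have h2 := congrArg (fun g : A[X] => (g : PowerSeries A)) hq
  simp only [Polynomial.coe_mul, Polynomial.coe_zero] at h2
  rw [Polynomial.coe_zero]
  exact h1.mul_left_eq_zero.mp h2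

namespace CellFun

variable (F : CellFun R) {A B : Type u} [CommRing A] [Algebra R A] [CommRing B] [Algebra R B]

/-- `t` is the value of the cocharacter at the unit `z`. -/
def IsH (a : Rˣ) (z : A) (t : F.T A) : Prop :=
  ∃ p q : A, F.u ((z - 1) * algebraMap R A ((a⁻¹ : Rˣ) : R)) * F.v 1 = F.v p * F.i t * F.u q

variable {F} {a : Rˣ}

theorem algebraMap_mul_inv (a : Rˣ) : algebraMap R A (a : R) * algebraMap R A ((a⁻¹ : Rˣ) : R) = 1 := by
  rw [← map_mul, Units.mul_inv, map_one]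

theorem IsH.map {z : A} {t : F.T A} (h : F.IsH a z t) (φ : A →ₐ[R] B) : F.IsH a (φ z) (F.tmap φ t) := by
  obtain ⟨p, q, h⟩ := h
  have h' := F.map_coords φ h
  rw [map_one, map_mul, map_sub, map_one, AlgHom.commutes] at h'
  exact ⟨_, _, h'⟩

theorem IsH.unique {z : A} {t t' : F.T A} (h : F.IsH a z t) (h' : F.IsH a z t') : t = t' := by
  obtain ⟨p, q, h⟩ := h
  obtain ⟨p', q', h'⟩ := h'
  exact (F.inj (h.symm.trans h')).2.1

theorem exists_isH (ha : F.IsSlope a) {z : A} (hz : IsUnit z) : ∃ t, F.IsH a z t := by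
  obtain ⟨p, t, q, h⟩ := F.in_of_isUnit_one (x := (z - 1) * algebraMap R A ((a⁻¹ : Rˣ) : R)) ha a.isUnit (by
    convert hz using 1
    linear_combination (z - 1) * algebraMap_mul_inv (A := A) a)
  exact ⟨t, p, q, h⟩

theorem isH_coord {x a₀ b₀ : A} {t : F.T A} (h : F.u x * F.v 1 = F.v a₀ * F.i t * F.u b₀) :
    F.IsH a (1 + algebraMap R A a * x) t := by
  refine ⟨a₀, b₀, ?_⟩
  rw [← h]
  congr 2
  linear_combination x * algebraMap_mul_inv (A := A) a

theorem IsH.mul (ha : F.IsSlope a) {z₁ z₂ : A} {t₁ t₂ : F.T A} (hz₁ : IsUnit z₁) (hz₂ : IsUnit z₂)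
    (h₁ : F.IsH a z₁ t₁) (h₂ : F.IsH a z₂ t₂) : F.IsH a (z₁ * z₂) (t₁ * t₂) := by
  obtain ⟨p₁, q₁, h₁⟩ := h₁
  obtain ⟨p₂, q₂, h₂⟩ := h₂
  obtain ⟨r, hr⟩ : ∃ r, r = algebraMap R A ((a⁻¹ : Rˣ) : R) := ⟨_, rfl⟩
  rw [← hr] at h₁ h₂
  have hra : algebraMap R A (a : R) * r = 1 := by rw [hr]; exact algebraMap_mul_inv a
  have hp : p₂ * z₂ = 1 := by
    linear_combination F.slope_identity ha a.isUnit h₂ + (-p₂ * (z₂ - 1)) * hra
  obtain ⟨c, hc⟩ := F.isUnit_coord h₂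
  have e : F.u ((z₁ - 1) * r * z₂ * c) * F.v 1 = F.v p₁ * F.i t₁ * F.u q₁ := by
    rw [← h₁, hc]; congr 2; linear_combination (z₁ - 1) * r * hp
  have h3 := F.scale_eq c e
  rw [hc] at h3
  refine ⟨p₂ * p₁, ((F.χ t₂)⁻¹ : Aˣ) * (((c⁻¹ : Aˣ) : A) * q₁) + q₂, ?_⟩
  rw [← F.cell_mul, ← h3, ← hr, show (z₁ * z₂ - 1) * r = (z₁ - 1) * r * z₂ + (z₂ - 1) * r by ring, F.u_add,
    mul_assoc, h₂]
  group

/-- The character of the cocharacter is the square, and the last coordinate of `u x * v 1` is `x/(1+ax)`. -/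
theorem quad (ha : F.IsSlope a) {x a₀ b₀ : A} {t₀ : F.T A}
    (h : F.u x * F.v 1 = F.v a₀ * F.i t₀ * F.u b₀) :
    (F.χ t₀ : A) = (1 + algebraMap R A a * x) ^ 2 ∧ b₀ * (1 + algebraMap R A a * x) = x := by
  obtain ⟨α, hα⟩ : ∃ α, α = algebraMap R A (a : R) := ⟨_, rfl⟩
  rw [← hα]
  obtain ⟨z, hz⟩ : ∃ z, z = 1 + α * x := ⟨_, rfl⟩
  rw [← hz]
  have ha₀ : a₀ * z = 1 := by rw [hz, hα]; exact F.slope_identity ha a.isUnit h
  let f : A[X] := X * (1 + X) * (C z + C (α * x) * X) * (1 + C (α * b₀) * X)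
  let L := Localization.Away f
  let φ : A →ₐ[R] L := IsScalarTower.toAlgHom R A L
  obtain ⟨w, hw⟩ : ∃ w : L, w = algebraMap A[X] L X := ⟨_, rfl⟩
  have hC : ∀ c : A, algebraMap A[X] L (C c) = φ c := fun c =>
    (IsScalarTower.algebraMap_apply A A[X] L c).symm
  have hα' : algebraMap R L (a : R) = φ α := by rw [hα]; exact (φ.commutes _).symm
  have hf : IsUnit (algebraMap A[X] L f) := IsLocalization.Away.algebraMap_isUnit f
  simp only [f, map_mul, map_add, map_one, hC, ← hw] at hf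
  rw [IsUnit.mul_iff, IsUnit.mul_iff, IsUnit.mul_iff] at hf
  obtain ⟨⟨⟨hwu, h1w⟩, hzw⟩, hbw⟩ := hf
  have hzw' : IsUnit (1 + algebraMap R L a * φ x * (1 + w)) := by
    convert hzw using 1
    rw [hα', hz, map_add, map_one, map_mul]; ring
  have hbw' : IsUnit (1 + algebraMap R L a * φ b₀ * w) := by
    convert hbw using 1; rw [hα']
  obtain ⟨p₂, t₂, q₂, h2⟩ := (F.in_iff_isUnit ha a.isUnit (φ x) (1 + w)).mpr hzw'
  obtain ⟨p₃, t₃, q₃, h3⟩ := (F.in_iff_isUnit ha a.isUnit (φ b₀) w).mpr hbw'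
  obtain ⟨c₂, hc₂⟩ := h1w
  obtain ⟨c₃, hc₃⟩ := hwu
  obtain ⟨p₂', t₂', q₂', h2'⟩ := (F.in_scale (φ x) c₂).mp ⟨p₂, t₂, q₂, by rw [hc₂, h2]⟩
  obtain ⟨p₃', t₃', q₃', h3'⟩ := (F.in_scale (φ b₀) c₃).mp ⟨p₃, t₃, q₃, by rw [hc₃, h3]⟩
  have e2 : p₂ = c₂ * p₂' := (F.inj (h2.symm.trans (by rw [← hc₂]; exact F.scale_eq c₂ h2'))).1
  have e3 : p₃ = c₃ * p₃' := (F.inj (h3.symm.trans (by rw [← hc₃]; exact F.scale_eq c₃ h3'))).1
  have s2 := F.slope_identity ha a.isUnit h2'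
  have s3 := F.slope_identity ha a.isUnit h3'
  rw [hc₂, hα'] at s2
  rw [hc₃, hα'] at s3
  rw [hc₂] at e2
  rw [hc₃] at e3
  have h' := F.map_coords φ h
  rw [map_one] at h'
  have h4 : F.u (φ x) * F.v (1 + w) =
      F.v (φ a₀ + ((F.χ (F.tmap φ t₀))⁻¹ : Lˣ) * p₃) * F.i (F.tmap φ t₀ * t₃) * F.u q₃ := by
    rw [F.v_add, ← mul_assoc, h', mul_assoc _ (F.u (φ b₀)), h3, F.mul_cell]
  have e4 := (F.inj (h2.symm.trans h4)).1
  have hβ : ((F.χ (F.tmap φ t₀) : Lˣ) : L) * (((F.χ (F.tmap φ t₀))⁻¹ : Lˣ) : L) = 1 := Units.mul_inv _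
  rw [F.χ_map] at hβ
  have ha₀' : φ a₀ * φ z = 1 := by rw [← map_mul, ha₀, map_one]
  have hz' : φ z = 1 + φ α * φ x := by rw [hz, map_add, map_one, map_mul]
  generalize (((F.χ (F.tmap φ t₀))⁻¹ : Lˣ) : L) = β' at e4 hβ
  generalize (F.χ t₀ : A) = β at hβ ⊢
  have key : w * (φ β * (1 + φ α * φ b₀ * w) - φ z * (φ z + φ α * φ x * w)) = 0 := by
    linear_combination (φ β * φ z * (1 + φ α * φ x * (1 + w)) * (1 + φ α * φ b₀ * w)) * (e4 - e2 + β' * e3) +
      (-(φ β * φ z * (1 + φ α * φ b₀ * w) * (1 + w))) * s2 +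
      ((φ β * (1 + φ α * φ x * (1 + w)) * (1 + φ α * φ b₀ * w))) * ha₀' +
      (β' * φ β * φ z * (1 + φ α * φ x * (1 + w)) * w) * s3 +
      (φ z * w * (1 + φ α * φ x * (1 + w))) * hβ +
      (-φ β * (1 + φ α * φ b₀ * w) * (1 + w) - φ z * w) * hz'
  have key' : algebraMap A[X] L (C β * (1 + C (α * b₀) * X) - C z * (C z + C (α * x) * X)) = algebraMap A[X] L 0 := by
    have hwu' : IsUnit w := ⟨c₃, hc₃⟩
    simp only [map_sub, map_mul, map_add, map_one, hC, ← hw, map_zero]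
    exact hwu'.mul_right_eq_zero.mp key
  have hX : (X : A[X]) ∈ nonZeroDivisors A[X] := monic_X.mem_nonZeroDivisors
  have h1X : (1 + X : A[X]) ∈ nonZeroDivisors A[X] := mem_nonZeroDivisors_of_isUnit _ (by simp)
  have hzu : IsUnit z := IsUnit.of_mul_eq_one a₀ (by rw [mul_comm]; exact ha₀)
  have hinj : Function.Injective (algebraMap A[X] L) := by
    refine IsLocalization.injective L (M := Submonoid.powers f) (Submonoid.powers_le.mpr ?_)
    exact mul_mem (mul_mem (mul_mem hX h1X) (mem_nonZeroDivisors_of_isUnit _ (by simpa using hzu)))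
      (mem_nonZeroDivisors_of_isUnit _ (by simp))
  have key2 := hinj key'
  have c0 := congrArg (fun g : A[X] => g.coeff 0) key2
  have c1 := congrArg (fun g : A[X] => g.coeff 1) key2
  simp [mul_add] at c0 c1
  refine ⟨by linear_combination c0, ?_⟩
  have hu : IsUnit (α * z) := (hα ▸ a.isUnit.map (algebraMap R A)).mul hzu
  refine hu.mul_left_cancel ?_
  linear_combination c1 + (-α * b₀) * c0

/-- The rule for a unit second argument. -/
theorem rule_unit (ha : F.IsSlope a) {x z : A} (c : Aˣ) (hz : z = 1 + algebraMap R A a * x * c) (hzu : IsUnit z) :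
    ∃ (a₁ b₁ : A) (t : F.T A), a₁ * z = c ∧ b₁ * z = x ∧ F.IsH a z t ∧
      F.u x * F.v (c : A) = F.v a₁ * F.i t * F.u b₁ := by
  obtain ⟨a₀, t, b₀, h⟩ := F.in_of_isUnit_one (x := x * c) ha a.isUnit (by rwa [← mul_assoc, ← hz])
  have e : 1 + algebraMap R A a * (x * c) = z := by rw [hz, mul_assoc]
  refine ⟨c * a₀, ((c⁻¹ : Aˣ) : A) * b₀, t, ?_, ?_, e ▸ isH_coord h, F.scale_eq c h⟩
  · rw [mul_assoc, ← e, F.slope_identity ha a.isUnit h, mul_one]
  · rw [mul_assoc, ← e, (quad ha h).2, mul_comm, mul_assoc, Units.mul_inv, mul_one]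

theorem chi_isH (ha : F.IsSlope a) {z : A} {t : F.T A} (h : F.IsH a z t) : (F.χ t : A) = z ^ 2 := by
  obtain ⟨p, q, h⟩ := h
  rw [(quad ha h).1]
  congr 1
  linear_combination (z - 1) * algebraMap_mul_inv (A := A) a

/-- The commutation rule. -/
theorem rule (ha : F.IsSlope a) {x y : A} (hzu : IsUnit (1 + algebraMap R A a * x * y)) :
    ∃ (a₁ b₁ : A) (t : F.T A), a₁ * (1 + algebraMap R A a * x * y) = y ∧
      b₁ * (1 + algebraMap R A a * x * y) = x ∧ F.IsH a (1 + algebraMap R A a * x * y) t ∧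
      F.u x * F.v y = F.v a₁ * F.i t * F.u b₁ := by
  obtain ⟨a₁, t₁, b₁, h₁⟩ := (F.in_iff_isUnit ha a.isUnit x y).mpr hzu
  obtain ⟨t, ht⟩ := exists_isH ha hzu
  obtain ⟨z, hz⟩ : ∃ z, z = 1 + algebraMap R A a * x * y := ⟨_, rfl⟩
  rw [← hz] at ht hzu ⊢
  obtain ⟨zu, hzu'⟩ := hzu
  suffices hs : F.u x * F.v y = F.v (y * ((zu⁻¹ : Aˣ) : A)) * F.i t * F.u (x * ((zu⁻¹ : Aˣ) : A)) by
    refine ⟨_, _, t, ?_, ?_, ht, hs⟩ <;> rw [← hzu', mul_assoc, Units.inv_mul, mul_one]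
  let f : A[X] := X * (C y - X) * (1 + C (algebraMap R A a * x) * X)
  let L := Localization.Away f
  let φ : A →ₐ[R] L := IsScalarTower.toAlgHom R A L
  have hff : φ.toRingHom.FaithfullyFlat := faithfullyFlat_away f fun p hp => by
    haveI := hp
    simp only [f, Polynomial.map_mul, Polynomial.map_sub, Polynomial.map_add, Polynomial.map_one, map_X, map_C]
    refine mul_ne_zero (mul_ne_zero X_ne_zero fun h => ?_) fun h => ?_
    · simpa using congrArg (fun g : (A ⧸ p)[X] => g.coeff 1) h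
    · simpa using congrArg (fun g : (A ⧸ p)[X] => g.coeff 0) h
  refine F.descent φ hff ?_
  rw [F.map_uv, map_mul, map_mul, F.v_map, F.i_map, F.u_map, map_mul, map_mul]
  obtain ⟨w, hw⟩ : ∃ w : L, w = algebraMap A[X] L X := ⟨_, rfl⟩
  have hC : ∀ c : A, algebraMap A[X] L (C c) = φ c := fun c =>
    (IsScalarTower.algebraMap_apply A A[X] L c).symm
  have hf : IsUnit (algebraMap A[X] L f) := IsLocalization.Away.algebraMap_isUnit f
  simp only [f, map_mul, map_add, map_sub, map_one, hC, ← hw, AlgHom.commutes] at hf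
  rw [IsUnit.mul_iff, IsUnit.mul_iff] at hf
  obtain ⟨⟨⟨c₁, hc₁⟩, ⟨c₂, hc₂⟩⟩, hz₁⟩ := hf
  obtain ⟨p₁, q₁, s₁, hp₁, hq₁, hs₁, e₁⟩ := rule_unit (z := 1 + algebraMap R L a * φ x * w) ha c₁
    (by rw [hc₁]) hz₁
  have hzφ : φ z = 1 + algebraMap R L a * φ x * φ y := by
    rw [hz, map_add, map_one, map_mul, map_mul, AlgHom.commutes]
  obtain ⟨z₁, hz₁e⟩ := hz₁
  have hzz : 1 + algebraMap R L a * q₁ * c₂ = φ z * ((z₁⁻¹ : Lˣ) : L) := by
    rw [Units.eq_mul_inv_iff_mul_eq, hz₁e, hzφ, hc₂]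
    linear_combination (algebraMap R L a * (φ y - w)) * hq₁
  obtain ⟨p₂, q₂, s₂, hp₂, hq₂, hs₂, e₂⟩ := rule_unit (z := φ z * ((z₁⁻¹ : Lˣ) : L)) ha c₂ hzz.symm
    ((((zu.isUnit).map φ).mul (Units.isUnit _)) |> fun h => hzu' ▸ h)
  have e : F.u (φ x) * F.v (φ y) = F.v (p₁ + ((F.χ s₁)⁻¹ : Lˣ) * p₂) * F.i (s₁ * s₂) * F.u q₂ := by
    rw [show φ y = (c₁ : L) + c₂ by rw [hc₁, hc₂]; ring, F.v_add, ← mul_assoc, e₁,
      mul_assoc _ (F.u q₁), e₂, F.mul_cell]
  rw [e]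
  have hs : F.tmap φ t = s₁ * s₂ := by
    refine ((ht.map φ).unique ?_)
    have hm := hs₁.mul ha ⟨z₁, hz₁e⟩ ((((zu.isUnit).map φ).mul (Units.isUnit (z₁⁻¹))) |> fun h => hzu' ▸ h) hs₂
    rw [← hz₁e] at hm
    rwa [mul_left_comm, Units.mul_inv, mul_one] at hm
  rw [hs]
  have hχ := chi_isH ha hs₁
  have hu : φ z * φ ((zu⁻¹ : Aˣ) : A) = 1 := by rw [← map_mul, ← hzu', Units.mul_inv, map_one]
  have hi : ((F.χ s₁ : Lˣ) : L) * (((F.χ s₁)⁻¹ : Lˣ) : L) = 1 := Units.mul_inv _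
  rw [hχ] at hi
  have hz₁i : (z₁ : L) * ((z₁⁻¹ : Lˣ) : L) = 1 := Units.mul_inv _
  rw [← hz₁e] at hp₁ hq₁ hi
  rw [hc₁] at hp₁
  rw [hc₂] at hp₂
  generalize (((F.χ s₁)⁻¹ : Lˣ) : L) = β' at hi ⊢
  generalize φ ((zu⁻¹ : Aˣ) : A) = ζ at hu ⊢
  congr 3
  · linear_combination (-(p₁ + β' * p₂)) * hu + ζ * (-p₂ * β' * φ z) * 0 +
      ζ * ((φ z) * ((z₁⁻¹ : Lˣ) : L)) * hp₁ + ζ * (-p₁ * φ z) * hz₁i +
      ζ * ((z₁ : L) * β') * hp₂ + ζ * (-p₂ * β' * φ z) * hz₁i +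
      ζ * ((φ y - w) * ((z₁⁻¹ : Lˣ) : L)) * hi + ζ * (-(φ y - w) * β' * (z₁ : L)) * hz₁i +
      ζ * (w * ((z₁⁻¹ : Lˣ) : L)) * hzφ + ζ * (-w * algebraMap R L a * φ x * φ y * 0) +
      ζ * (-φ y * ((z₁⁻¹ : Lˣ) : L)) * hz₁e + ζ * φ y * hz₁i
  · linear_combination (-q₂) * hu + ζ * (z₁ : L) * hq₂ + ζ * hq₁ + ζ * (-q₂ * φ z) * hz₁i

end CellFun

end GrothLib.RankComm14
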