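import Groth.Agent.Lib.RankComm14.Abstract

/-!
The slope of a rank one system: `u x * v y` lies in the cell exactly when `1 + a x y` is a unit.
-/

universe u

open Polynomial

namespace GrothLib.RankComm14

variable {R : Type u} [CommRing R]

namespace CellFun

variable (F : CellFun R) {A B : Type u} [CommRing A] [Algebra R A] [CommRing B] [Algebra R B]

/-- `a` is the slope: the first coordinate of `u e * v 1` is `1 - a e` for `e` of square zero. -/
def IsSlope (a : R) : Prop :=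
  ∃ (t : F.T (DualNumber R)) (b : DualNumber R), F.u (DualNumber.eps : DualNumber R) * F.v 1 =
    F.v (1 - algebraMap R (DualNumber R) a * DualNumber.eps) * F.i t * F.u b

theorem exists_isSlope : ∃ a, F.IsSlope a := by
  obtain ⟨p, t, b, h⟩ := F.in_eps
  refine ⟨-TrivSqZeroExt.snd p, t, b, ?_⟩
  rw [h]
  congr 3
  obtain ⟨φ, hφ⟩ := CellFun.sq_zero_hom (R := R) (B := R) 0 (mul_zero 0)
  have h1 := F.map_coords φ h
  rw [map_one, hφ, F.u_zero, one_mul] at h1
  have h2 : φ p = 1 := by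
    have e : F.v (1 : R) * F.i 1 * F.u 0 = F.v (φ p) * F.i (F.tmap φ t) * F.u (φ b) := by
      rw [map_one, F.u_zero, mul_one, mul_one]; exact h1
    exact (F.inj e).1.symm
  have h3 : φ p = TrivSqZeroExt.fst p := by
    conv_lhs => rw [← TrivSqZeroExt.inl_fst_add_inr_snd_eq p]
    rw [DualNumber.inr_eq_smul_eps, map_add, map_smul, hφ, smul_zero, add_zero]
    exact φ.commutes _
  refine TrivSqZeroExt.ext ?_ ?_
  · simp [TrivSqZeroExt.algebraMap_eq_inl, ← h3, h2]
  · simp [TrivSqZeroExt.algebraMap_eq_inl]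

variable {F}

theorem IsSlope.coords {a : R} (ha : F.IsSlope a) (e : B) (he : e * e = 0) :
    ∃ (t : F.T B) (b : B), F.u e * F.v 1 = F.v (1 - algebraMap R B a * e) * F.i t * F.u b := by
  obtain ⟨t, b, h⟩ := ha
  obtain ⟨φ, hφ⟩ := CellFun.sq_zero_hom (R := R) e he
  have h1 := F.map_coords φ h
  rw [map_one, hφ, map_sub, map_mul, AlgHom.commutes, map_one, hφ] at h1
  exact ⟨_, _, h1⟩

theorem in_shift {a : R} (ha : F.IsSlope a) (e v a₀ b₀ : A) (t₀ : F.T A) (he : e * e = 0)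
    (h : F.u v * F.v 1 = F.v a₀ * F.i t₀ * F.u b₀) :
    ∃ (t : F.T A) (b : A), F.u (v + e) * F.v 1 = F.v (a₀ - algebraMap R A a * a₀ ^ 2 * e) * F.i t * F.u b := by
  obtain ⟨c, hc⟩ := F.isUnit_coord h
  obtain ⟨t, b, h1⟩ := ha.coords (e * c) (by linear_combination (c : A) * c * he)
  have h2 := F.scale_eq c h1
  rw [hc] at h2
  refine ⟨t * t₀, ((F.χ t₀)⁻¹ : Aˣ) * (((c⁻¹ : Aˣ) : A) * b) + b₀, ?_⟩
  rw [add_comm v e, F.u_add, mul_assoc, h, ← mul_assoc, ← mul_assoc, h2, mul_assoc _ (F.i t₀) (F.u b₀),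
    F.cell_mul]
  congr 3
  ring

/-- The first coordinate of `u x * v 1` is inverse to `1 + a x`. -/
theorem slope_identity {a : R} (ha : F.IsSlope a) (hu : IsUnit a) {x a₀ b₀ : A} {t₀ : F.T A}
    (h : F.u x * F.v 1 = F.v a₀ * F.i t₀ * F.u b₀) : a₀ * (1 + algebraMap R A a * x) = 1 := by
  let ι : A →ₐ[R] DualNumber A := TrivSqZeroExt.inlAlgHom R A A
  have hι : ∀ z : A, ι z = TrivSqZeroExt.inl z := fun _ => rfl
  have h' := F.map_coords ι h
  rw [map_one] at h'
  obtain ⟨α, hα⟩ : ∃ α, α = algebraMap R (DualNumber A) a := ⟨_, rfl⟩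
  obtain ⟨ε, hε⟩ : ∃ ε : DualNumber A, ε = DualNumber.eps := ⟨_, rfl⟩
  have hεε : ε * ε = 0 := by rw [hε, DualNumber.eps_mul_eps]
  obtain ⟨t₁, b₁, h1⟩ := in_shift ha ε (ι x) _ _ _ hεε h'
  obtain ⟨t₂, b₂, h2⟩ := in_shift ha (-(α * ι x * ε)) (ι x) _ _ _
    (by linear_combination (α * ι x) ^ 2 * hεε) h'
  obtain ⟨t₃, b₃, h3⟩ := ha.coords ε hεε
  rw [← hα] at h3
  obtain ⟨c, hc⟩ : IsUnit (1 - α * ε) :=
    IsUnit.of_mul_eq_one (1 + α * ε) (by linear_combination (-α ^ 2) * hεε)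
  have h4 : F.u (ι x * c) * F.v 1 = F.v (ι a₀ - α * ι a₀ ^ 2 * (-(α * ι x * ε))) * F.i t₂ * F.u b₂ := by
    rw [← hα] at h2
    rw [hc, ← h2]; congr 2; ring
  have h5 := F.scale_eq c h4
  rw [hc] at h5
  have h6 : F.u (ι x + ε) * F.v 1 = F.v ((1 - α * ε) * (ι a₀ - α * ι a₀ ^ 2 * (-(α * ι x * ε)))) *
      F.i (t₂ * t₃) * F.u (((F.χ t₃)⁻¹ : (DualNumber A)ˣ) * (((c⁻¹ : (DualNumber A)ˣ) : DualNumber A) * b₂) + b₃) := by
    rw [F.u_add, mul_assoc, h3, ← mul_assoc, ← mul_assoc, h5, mul_assoc _ (F.i t₃) (F.u b₃), F.cell_mul]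
  have h7 := congrArg TrivSqZeroExt.snd (F.inj (h1.symm.trans h6)).1
  rw [hα, hε] at h7
  simp [hι, TrivSqZeroExt.algebraMap_eq_inl', pow_two, TrivSqZeroExt.snd_mul, Algebra.algebraMap_self,
    smul_eq_mul, MulOpposite.smul_eq_mul_unop] at h7
  obtain ⟨c₀, hc₀⟩ := F.isUnit_coord h
  have h8 : IsUnit (algebraMap R A a * a₀) := (hu.map _).mul ⟨c₀, hc₀⟩
  refine h8.mul_left_cancel ?_
  linear_combination -h7

/-- The image of a point of the affine line in the cell is the complement of finitely many values. -/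
theorem exists_poly (F : CellFun R) (K : Type u) [Field K] [Algebra R K] :
    ∃ P : Polynomial K, P.eval 0 ≠ 0 ∧
      F.In (F.u (algebraMap (Polynomial K) (Localization.Away P) Polynomial.X) * F.v 1) ∧
      ∀ r : K, P.eval r ≠ 0 → F.In (F.u r * F.v 1) := by
  obtain ⟨J, -, hJφ⟩ := F.locus (F.u (Polynomial.X : Polynomial K) * F.v 1)
  let ev : K → (Polynomial K →ₐ[R] K) := fun r => (Polynomial.aeval r).restrictScalars R
  have hev : ∀ r g, ev r g = g.eval r := fun r g => by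
    simp only [ev, AlgHom.restrictScalars_apply, Polynomial.coe_aeval_eq_eval]
  have h0 : J.map (ev 0).toRingHom = ⊤ := by
    refine (hJφ (ev 0)).mp ?_
    rw [F.map_uv, map_one, hev, Polynomial.eval_X, F.u_zero, one_mul]
    exact F.in_v _
  obtain ⟨P, hP, hP0⟩ : ∃ P ∈ J, P.eval 0 ≠ 0 := by
    by_contra h
    push Not at h
    have hle : J.map (ev 0).toRingHom ≤ ⊥ := by
      rw [Ideal.map_le_iff_le_comap]
      exact fun g hg => (hev 0 g).trans (h g hg)
    exact bot_ne_top (le_bot_iff.mp (h0.symm.le.trans hle)).symm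
  refine ⟨P, hP0, ?_, fun r hr => ?_⟩
  · have h : J.map (IsScalarTower.toAlgHom R (Polynomial K) (Localization.Away P)).toRingHom = ⊤ :=
      Ideal.eq_top_of_isUnit_mem _ (Ideal.mem_map_of_mem _ hP) (IsLocalization.Away.algebraMap_isUnit P)
    have h' := (hJφ _).mpr h
    rw [F.map_uv, map_one] at h'
    exact h'
  · have h : J.map (ev r).toRingHom = ⊤ :=
      Ideal.eq_top_of_isUnit_mem _ (Ideal.mem_map_of_mem _ hP) (isUnit_iff_ne_zero.mpr (by
        change ev r P ≠ 0
        rwa [hev]))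
    have h' := (hJφ _).mpr h
    rw [F.map_uv, map_one, hev, Polynomial.eval_X] at h'
    exact h'

theorem in_add_iff {x v a₀ b₀ : A} {t₀ : F.T A} (h : F.u v * F.v 1 = F.v a₀ * F.i t₀ * F.u b₀) :
    F.In (F.u (x + v) * F.v 1) ↔ F.In (F.u (x * a₀) * F.v 1) := by
  obtain ⟨c, hc⟩ := F.isUnit_coord h
  rw [F.u_add, mul_assoc, h, mul_assoc (F.v a₀), ← mul_assoc, F.in_right, ← hc]
  exact F.in_scale x c

/-- Over an algebraically closed field the cell misses only the root of `1 + a x`. -/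
theorem in_of_isUnit_field {a : R} (ha : F.IsSlope a) (hu : IsUnit a) (L : Type u) [Field L] [IsAlgClosed L]
    [Algebra R L] {z : L} (hz : 1 + algebraMap R L a * z ≠ 0) : F.In (F.u z * F.v 1) := by
  by_contra hn
  obtain ⟨P, hP0, -, hP⟩ := exists_poly F L
  have hPne : P ≠ 0 := fun h => hP0 (by rw [h, Polynomial.eval_zero])
  have hfin : {r : L | P.eval r = 0}.Finite := Polynomial.finite_setOf_isRoot hPne
  let f : L → L := fun v => (z - v) / (1 + algebraMap R L a * v)
  have key : ∀ v, P.eval v ≠ 0 → (1 + algebraMap R L a * v) ≠ 0 ∧ P.eval (f v) = 0 := by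
    intro v hv
    obtain ⟨a₀, t₀, b₀, h⟩ := hP v hv
    have h1 := slope_identity ha hu h
    have h2 : a₀ = (1 + algebraMap R L a * v)⁻¹ := eq_inv_of_mul_eq_one_left h1
    refine ⟨fun h0 => by simp [h0] at h1, ?_⟩
    by_contra h3
    apply hn
    rw [← sub_add_cancel z v, in_add_iff h, h2, ← div_eq_mul_inv]
    exact hP _ h3
  have hinf : {r : L | P.eval r ≠ 0}.Infinite := Set.Finite.infinite_compl hfin
  refine hinf (Set.Finite.of_finite_image (f := f) (hfin.subset ?_) ?_)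
  · rintro _ ⟨v, hv, rfl⟩
    exact (key v hv).2
  · intro v hv w hw hvw
    simp only [f] at hvw
    rw [div_eq_div_iff (key v hv).1 (key w hw).1] at hvw
    have : (w - v) * (1 + algebraMap R L a * z) = 0 := by linear_combination hvw
    rcases mul_eq_zero.mp this with h | h
    · exact (sub_eq_zero.mp h).symm
    · exact absurd h hz

theorem in_of_isUnit_one {a : R} (ha : F.IsSlope a) (hu : IsUnit a) {x : A}
    (h : IsUnit (1 + algebraMap R A a * x)) : F.In (F.u x * F.v 1) := by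
  refine F.in_of_fields _ fun L _ _ _ φ => ?_
  rw [F.map_uv, map_one]
  refine in_of_isUnit_field ha hu L ?_
  rw [← AlgHom.commutes φ a, ← map_mul, ← map_one φ, ← map_add]
  exact (h.map φ).ne_zero

/-- The cell condition for `u x * v y`. -/
theorem in_iff_isUnit {a : R} (ha : F.IsSlope a) (hu : IsUnit a) (x y : A) :
    F.In (F.u x * F.v y) ↔ IsUnit (1 + algebraMap R A a * x * y) := by
  constructor
  · intro h
    by_contra hn
    obtain ⟨m, hm, hmem⟩ := exists_max_ideal_of_mem_nonunits hn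
    letI : Field (A ⧸ m) := Ideal.Quotient.field m
    let φ := Ideal.Quotient.mkₐ R m
    have h0 : φ (1 + algebraMap R A a * x * y) = 0 := Ideal.Quotient.eq_zero_iff_mem.mpr hmem
    rw [map_add, map_mul, map_mul, AlgHom.commutes, map_one] at h0
    by_cases hy : φ y = 0
    · rw [hy, mul_zero, add_zero] at h0
      exact one_ne_zero h0
    · have h' := F.in_map φ h
      rw [F.map_uv, ← IsUnit.unit_spec (isUnit_iff_ne_zero.mpr hy), F.in_scale, IsUnit.unit_spec] at h'
      obtain ⟨a₀, t₀, b₀, h1⟩ := h'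
      have h2 := slope_identity ha hu h1
      rw [← mul_assoc, h0, mul_zero] at h2
      exact zero_ne_one h2
  · intro h
    refine F.in_of_fields _ fun L _ _ _ φ => ?_
    rw [F.map_uv]
    have h' : IsUnit (1 + algebraMap R L a * (φ x * φ y)) := by
      rw [← mul_assoc, ← AlgHom.commutes φ a, ← map_mul, ← map_mul, ← map_one φ, ← map_add]
      exact h.map φ
    by_cases hy : φ y = 0
    · exact ⟨0, 1, φ x, by rw [hy, F.v_zero, map_one, mul_one, mul_one, one_mul]⟩
    · rw [← IsUnit.unit_spec (isUnit_iff_ne_zero.mpr hy), F.in_scale, IsUnit.unit_spec]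
      exact in_of_isUnit_one ha hu h'

end CellFun

end GrothLib.RankComm14
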